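import Mathlib

/-!
# Descent: a semilinear involution of a quadratic space of characteristic 2

`g` a semilinear involution with nontrivial field automorphism `s` (`F` finite of characteristic 2), `q (g v) = s (q v)`,
`V₀` a `g`-invariant subspace on which the polar form is not zero: `V₀` has a nonzero singular vector.
-/

set_option autoImplicit false

namespace Cfsg.Agent.OddHalf.D4.MinusB

/-- `z² + z` -/
def asHom (F : Type*) [Field F] [CharP F 2] : F →+ F where
  toFun z := z * z + z
  map_zero' := by simp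
  map_add' a b := by
    have : (a + b) * (a + b) = a * a + b * b := by
      have := CharTwo.add_self_eq_zero (a * b)
      linear_combination this
    rw [this]; ring

theorem asHom_apply {F : Type*} [Field F] [CharP F 2] (z : F) : asHom F z = z * z + z := rfl

theorem card_ker (F : Type*) [Field F] [CharP F 2] : Nat.card (asHom F).ker = 2 := by
  rw [Nat.card_eq_two_iff]
  refine ⟨⟨0, (asHom F).ker.zero_mem⟩, ⟨1, ?_⟩, ?_, ?_⟩
  · rw [AddMonoidHom.mem_ker, asHom_apply, mul_one]
    exact CharTwo.add_self_eq_zero 1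
  · intro h
    exact zero_ne_one (congrArg Subtype.val h)
  · rw [Set.eq_univ_iff_forall]
    rintro ⟨z, hz⟩
    rw [AddMonoidHom.mem_ker, asHom_apply] at hz
    have h1 : z * (z + 1) = 0 := by rw [mul_add, mul_one]; exact hz
    rcases mul_eq_zero.1 h1 with h | h
    · exact Or.inl (Subtype.ext h)
    · refine Or.inr (Subtype.ext ?_)
      show z = 1
      rw [← CharTwo.add_self_eq_zero (1 : F)] at h
      exact add_right_cancel h

theorem index_range (F : Type*) [Field F] [CharP F 2] [Finite F] : (asHom F).range.index = 2 := by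
  have h1 := (asHom F).range.card_mul_index
  have h2 := (asHom F).ker.card_mul_index
  rw [AddSubgroup.index_ker, card_ker] at h2
  have h3 : 0 < Nat.card (asHom F).range := Nat.card_pos
  rw [← h2, mul_comm 2] at h1
  exact Nat.eq_of_mul_eq_mul_left h3 h1

/-- the fixed elements of an involutory automorphism are of the form `z² + z` -/
theorem mem_range {F : Type*} [Field F] [CharP F 2] [Finite F] {s : F ≃+* F} (hs1 : s ≠ 1) (hss : ∀ a, s (s a) = a)
    {d : F} (hd : s d = d) : ∃ z, z * z + z = d := by
  obtain ⟨l, hl⟩ : ∃ l, s l ≠ l := by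
    by_contra h
    push Not at h
    exact hs1 (RingEquiv.ext h)
  have hl0 : l + s l ≠ 0 := by
    intro h
    apply hl
    have h1 := CharTwo.add_self_eq_zero l
    exact add_left_cancel (h.trans h1.symm)
  obtain ⟨y, hy⟩ : ∃ y, y = d * (l / (l + s l)) := ⟨_, rfl⟩
  have h1 : y + s y = d := by
    rw [hy, map_mul, hd, map_div₀, map_add, hss, add_comm (s l) l, ← mul_add, ← add_div, div_self hl0, mul_one]
  have hI : ∀ a, a ∈ (asHom F).range → s a ∈ (asHom F).range := by
    rintro _ ⟨z, rfl⟩
    exact ⟨s z, by rw [asHom_apply, asHom_apply, map_add, map_mul]⟩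
  have h2 : y + s y ∈ (asHom F).range := by
    rw [AddSubgroup.add_mem_iff_of_index_two (index_range F)]
    exact ⟨hI y, fun h => by rw [← hss y]; exact hI _ h⟩
  rw [h1] at h2
  exact h2

variable {F V : Type*} [Field F] [AddCommGroup V] [Module F V]

theorem descent [Finite F] (h2 : (2 : F) = 0) {q : V → F} {h : V → V → F}
    (qadd : ∀ v w, q (v + w) = q v + q w + h v w) (qsmul : ∀ (a : F) v, q (a • v) = a * a * q v)
    (hsmul : ∀ (a : F) v w, h (a • v) w = a * h v w) (hadd : ∀ u v w, h (u + v) w = h u w + h v w)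
    {V₀ : Submodule F V} (hne : ∃ v ∈ V₀, ∃ w ∈ V₀, h v w ≠ 0) {s : F ≃+* F} (hs1 : s ≠ 1) {g : Equiv.Perm V}
    (gadd : ∀ u v, g (u + v) = g u + g v) (gsmul : ∀ (a : F) v, g (a • v) = s a • g v)
    (gq : ∀ v, q (g v) = s (q v)) (gg : ∀ v, g (g v) = v) (gV : ∀ w ∈ V₀, g w ∈ V₀) :
    ∃ w ∈ V₀, w ≠ 0 ∧ q w = 0 := by
  have hc : CharP F 2 := CharTwo.of_one_ne_zero_of_two_eq_zero one_ne_zero h2
  have hVadd : ∀ v : V, v + v = 0 := by
    intro v
    have : (2 : F) • v = v + v := two_smul F v
    rw [← this, h2, zero_smul]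
  have q0 : q 0 = 0 := by
    have := qsmul 0 0
    rwa [zero_smul, zero_mul, zero_mul] at this
  have hsym : ∀ v w, h v w = h w v := by
    intro v w
    have h1 := qadd v w
    have h3 := qadd w v
    rw [add_comm w v, add_comm (q w)] at h3
    exact add_left_cancel (h1.symm.trans h3)
  have hself : ∀ v, h v v = 0 := by
    intro v
    have h1 := qadd v v
    rw [hVadd, q0, CharTwo.add_self_eq_zero, zero_add] at h1
    exact h1.symm
  obtain ⟨v', hv', w', hw', hvw⟩ := hne
  have hv0 : v' ≠ 0 := by
    rintro rfl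
    apply hvw
    have := hsmul 0 0 w'
    rwa [zero_smul, zero_mul] at this
  have hss : ∀ a, s (s a) = a := by
    intro a
    have h1 := gg (a • v')
    rw [gsmul, gsmul, gg] at h1
    have h3 : (s (s a) - a) • v' = 0 := by rw [sub_smul, h1, sub_self]
    rcases smul_eq_zero.1 h3 with h4 | h4
    · exact sub_eq_zero.1 h4
    · exact absurd h4 hv0
  obtain ⟨l, hl⟩ : ∃ l, s l ≠ l := by
    by_contra h
    push Not at h
    exact hs1 (RingEquiv.ext h)
  have hl0 : l + s l ≠ 0 := by
    intro h
    apply hl
    have h1 := CharTwo.add_self_eq_zero l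
    exact add_left_cancel (h.trans h1.symm)
  -- fixed vectors span
  have key : ∀ u ∈ V₀, ∀ w, h u w ≠ 0 → ∃ f ∈ V₀, g f = f ∧ h f w ≠ 0 := by
    intro u hu w huw
    by_contra hcon
    push Not at hcon
    have hfix : ∀ a : F, h (a • u + s a • g u) w = 0 := by
      intro a
      refine hcon _ (V₀.add_mem (V₀.smul_mem a hu) (V₀.smul_mem _ (gV u hu))) ?_
      rw [gadd, gsmul, gsmul, gg, hss, add_comm]
    have e1 := hfix 1
    have e2 := hfix l
    rw [map_one, hadd, hsmul, hsmul, one_mul, one_mul] at e1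
    rw [hadd, hsmul, hsmul] at e2
    have e3 : (l + s l) * h u w = 0 := by
      have e4 := CharTwo.add_self_eq_zero (s l * h (g u) w)
      have : (l + s l) * h u w = s l * (h u w + h (g u) w) + (l * h u w + s l * h (g u) w)
        - (s l * h (g u) w + s l * h (g u) w) := by ring
      rw [this, e1, e2, e4]; ring
    exact (mul_ne_zero hl0 huw) e3
  obtain ⟨v, hv, hgv, h3⟩ := key v' hv' w' hvw
  rw [hsym] at h3
  obtain ⟨w, hw, hgw, h4⟩ := key w' hw' v h3
  have hvf : s (q v) = q v := by rw [← gq, hgv]
  have hwf : s (q w) = q w := by rw [← gq, hgw]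
  have hhf : s (h w v) = h w v := by
    have e1 : s (q (w + v)) = q (w + v) := by rw [← gq, gadd, hgw, hgv]
    rw [qadd, map_add, map_add, hvf, hwf] at e1
    exact add_left_cancel e1
  by_cases hq : q v = 0
  · refine ⟨v, hv, ?_, hq⟩
    rintro rfl
    apply h4
    rw [hsym]
    have := hsmul 0 0 w
    rwa [zero_smul, zero_mul] at this
  · obtain ⟨z, hz⟩ := mem_range hs1 hss (d := q v * q w / (h w v * h w v)) (by
      rw [map_div₀, map_mul, map_mul, hvf, hwf, hhf])
    have hx : ∃ x : F, x = h w v / q v * z := ⟨_, rfl⟩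
    obtain ⟨x, hx⟩ := hx
    refine ⟨x • v + w, V₀.add_mem (V₀.smul_mem x hv) hw, fun h0 => ?_, ?_⟩
    · apply h4
      have e1 : h (x • v + w) v = 0 := by
        rw [h0]
        have := hsmul 0 0 v
        rwa [zero_smul, zero_mul] at this
      rwa [hadd, hsmul, hself, mul_zero, zero_add] at e1
    · rw [qadd, qsmul, hsmul, hsym v w, hx]
      have e1 : h w v / q v * z * (h w v / q v * z) * q v + q w + h w v / q v * z * h w v =
          h w v * h w v / q v * (z * z + z + q v * q w / (h w v * h w v)) := by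
        field_simp
        ring
      rw [e1, hz, CharTwo.add_self_eq_zero, mul_zero]

end Cfsg.Agent.OddHalf.D4.MinusB
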