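import Mathlib
import Cfsg.Agent.OddHalf.D4.Free.AutFacts

/-!
# ODD, D4, (1B): chains of lines

helper328. `Chain A φ U` : `U` is built from `1` by adding one line at a time; `Chain.flt` : the filtration of
`FltA`.
-/

set_option autoImplicit false

namespace Cfsg.Agent.OddHalf.D4.MinusB

open Subgroup Cfsg.Agent.OddHalf.D4.Free

variable {X : Type*} [Group X]

/-- `l` is a line over `D`; `φ` = "trivial on `Z(T)`". -/
structure Step (A : Subgroup (MulAut X)) (φ : MulAut X → Prop) (D l : Subgroup X) : Prop where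
  sq : ∀ x ∈ l, x * x ∈ D
  pair : ∃ a ∈ l, ∃ b ∈ l, a ∉ D ∧ b ∉ D ∧ a⁻¹ * b ∉ D
  star : ∀ y ∈ A, φ y → y * y = 1 → ∀ x ∈ l, x ∉ D → y x = x → ∀ x' ∈ l, y x' = x'
  fix : ∀ x ∈ l, ∀ e ∈ A, φ e → e x * x⁻¹ ∈ D

/-- Subgroups built from `1` by adding lines. -/
inductive Chain (A : Subgroup (MulAut X)) (φ : MulAut X → Prop) : Subgroup X → Prop
  | bot : Chain A φ ⊥
  | step {D l : Subgroup X} : Chain A φ D → Step A φ D l → Chain A φ (D ⊔ l)

variable {A : Subgroup (MulAut X)} {φ : MulAut X → Prop}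

/-- The filtration of a chain. -/
theorem Chain.exists_filt {U₀ : Subgroup X} (h : Chain A φ U₀) : ∃ (U : ℕ → Subgroup X) (L : ℕ → Set (Subgroup X)),
    U 0 = U₀ ∧ (∃ n, U n = ⊥) ∧ (∀ j, U (j + 1) ≤ U j) ∧
      (∀ j, ∀ u ∈ U j, u ∈ closure ({x | ∃ l ∈ L j, x ∈ l} ∪ (U (j + 1) : Set X))) ∧
      ∀ j, ∀ l ∈ L j, l ≤ U j ∧ Step A φ (U (j + 1)) l := by
  induction h with
  | bot =>
    refine ⟨fun _ => ⊥, fun _ => ∅, rfl, ⟨0, rfl⟩, fun _ => le_rfl, fun j u hu => ?_, fun j l hl => absurd hl (by simp)⟩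
    exact subset_closure (Or.inr hu)
  | @step D l _ hs ih =>
    obtain ⟨U, L, h0, ⟨n, hn⟩, hle, hgen, hL⟩ := ih
    refine ⟨fun j => Nat.casesOn j (D ⊔ l) U, fun j => Nat.casesOn j {l} L, rfl, ⟨n + 1, hn⟩, ?_, ?_, ?_⟩
    · rintro (_ | j)
      · show U 0 ≤ D ⊔ l
        rw [h0]; exact le_sup_left
      · exact hle j
    · rintro (_ | j) u hu
      · have h1 : D ⊔ l ≤ closure ({x | ∃ l' ∈ ({l} : Set (Subgroup X)), x ∈ l'} ∪ (U 0 : Set X)) := by
          refine sup_le (fun x hx => ?_) (fun x hx => ?_)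
          · exact subset_closure (Or.inr (by rw [h0]; exact hx))
          · exact subset_closure (Or.inl ⟨l, rfl, hx⟩)
        exact h1 hu
      · exact hgen j u hu
    · rintro (_ | j) l' hl'
      · have h1 : l' = l := hl'
        subst h1
        refine ⟨le_sup_right, ?_⟩
        show Step A φ (U 0) l'
        rw [h0]; exact hs
      · exact hL j l' hl'

/-- **`FltA` from a chain.** -/
theorem Chain.flt {T : Sylow 2 X} (h : Chain A (FixZ T) (T : Subgroup X)) :
    ∃ U L, FltA T A U L := by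
  obtain ⟨U, L, h0, hn, hle, hgen, hL⟩ := h.exists_filt
  exact ⟨U, L,
    { zero := h0
      bot := hn
      le := hle
      gen := hgen
      line_le := fun j l hl => (hL j l hl).1
      sq := fun j l hl => (hL j l hl).2.sq
      pair := fun j l hl => (hL j l hl).2.pair
      star := fun j l hl => (hL j l hl).2.star
      fix := fun j l hl => (hL j l hl).2.fix }⟩

theorem Chain.congr {U₀ U₁ : Subgroup X} (h : Chain A φ U₀) (e : U₀ = U₁) : Chain A φ U₁ := e ▸ h

end Cfsg.Agent.OddHalf.D4.MinusB
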