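import Mathlib
import Cfsg.Agent.OddHalf.DblR.MinusComb

/-!
# ODD, D4, (1B), `PΩ⁻`: combinatorics

helper328. `ps x` : the position of a signed index in the flag; `rt_pos` : `rt x y > 0` iff `ps x + ps y < 2n + 1`;
`sym_B` : the diagram `B_n`, `n ≥ 3`, has no symmetries.
-/

set_option autoImplicit false

namespace Cfsg.Agent.OddHalf.D4.MinusB

open CoxeterSystem Cfsg.Agent.ChevalleyStructure.CoxeterGeom Cfsg.Agent.Tits.Roots Cfsg.Agent.Nodes.TypeC
  Cfsg.Agent.Nodes.BNOf Cfsg.Agent.Nodes.KindBC Cfsg.Agent.Nodes.TypeCForm Cfsg.Agent.OddHalf.DblR.MinusComb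

variable {n : ℕ}

/-- the position of a signed index -/
def ps (x : Fin n × Bool) : ℕ := if x.2 then x.1 else 2 * n + 1 - x.1

theorem ps_true (i : Fin n) : ps (i, true) = i := rfl

theorem ps_false (i : Fin n) : ps (i, false) = 2 * n + 1 - i := rfl

theorem ps_lt (x : Fin n × Bool) : ps x < 2 * n + 2 := by
  have := x.1.2
  unfold ps; split_ifs <;> omega

theorem ps_ng (x : Fin n × Bool) : ps x + ps (ng x) = 2 * n + 1 := by
  have := x.1.2
  rcases x with ⟨i, b⟩
  cases b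
  · show 2 * n + 1 - (i : ℕ) + (i : ℕ) = _
    simp only at this
    omega
  · show (i : ℕ) + (2 * n + 1 - (i : ℕ)) = _
    simp only at this
    omega

theorem ps_cases (x : Fin n × Bool) : (x.2 = true ∧ ps x = x.1 ∧ (x.1 : ℕ) < n) ∨
    (x.2 = false ∧ ps x = 2 * n + 1 - x.1 ∧ (x.1 : ℕ) < n) := by
  have := x.1.2
  rcases x with ⟨i, b⟩
  cases b
  · exact Or.inr ⟨rfl, rfl, this⟩
  · exact Or.inl ⟨rfl, rfl, this⟩

theorem ps_inj {x y : Fin n × Bool} (h : ps x = ps y) : x = y := by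
  rcases ps_cases x with ⟨h1, h2, h3⟩ | ⟨h1, h2, h3⟩ <;> rcases ps_cases y with ⟨h4, h5, h6⟩ | ⟨h4, h5, h6⟩
  · exact Prod.ext (Fin.ext (by omega)) (by rw [h1, h4])
  · omega
  · omega
  · exact Prod.ext (Fin.ext (by omega)) (by rw [h1, h4])

theorem ps_add {x y : Fin n × Bool} (h : y ≠ ng x) : ps x + ps y ≠ 2 * n + 1 := by
  intro h1
  have h2 := ps_ng x
  exact h (ps_inj (by omega))

/-- partial sums of a weight -/
theorem sum_wt_Iic (x : Fin n × Bool) (m : Fin n) : ∑ k ∈ Finset.Iic m, wt x k = if x.1 ≤ m then sn x else 0 := by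
  simp only [wt, Finset.sum_pi_single', Finset.mem_Iic]
  rfl

variable {W : Type*} [Group W] (cs : CoxeterSystem (CoxeterMatrix.B n) W)

theorem rt_nonneg {x y : Fin n × Bool} (h : ps x + ps y < 2 * n + 1) : 0 ≤ rt x y := by
  intro m
  show (0 : ℤ) ≤ (∑ k ∈ Finset.Iic m, (wt x + wt y) k) / cc m
  apply Int.ediv_nonneg
  · simp only [Pi.add_apply, Finset.sum_add_distrib, sum_wt_Iic]
    have e1 : ∀ z : Fin n × Bool, z.2 = true → sn z = 1 := fun z hz => sn_eq_one_iff.2 hz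
    have e2 : ∀ z : Fin n × Bool, z.2 = false → sn z = -1 := by
      intro z hz
      rcases sn_eq_one_or z with h1 | h1
      · rw [sn_eq_one_iff, hz] at h1; exact absurd h1 (by decide)
      · exact h1
    simp only [Fin.le_def]
    rcases ps_cases x with ⟨h1, h2, h3⟩ | ⟨h1, h2, h3⟩ <;> rcases ps_cases y with ⟨h4, h5, h6⟩ | ⟨h4, h5, h6⟩
    · rw [e1 x h1, e1 y h4]; split_ifs <;> norm_num
    · rw [e1 x h1, e2 y h4]; split_ifs <;> omega
    · rw [e2 x h1, e1 y h4]; split_ifs <;> omega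
    · omega
  · unfold cc; split_ifs <;> norm_num

theorem rt_pos {x y : Fin n × Bool} (hxy : Ok x y) (h : ps x + ps y < 2 * n + 1) :
    rt x y ∈ RGD.Pos cs (isCartan n) := ⟨isRoot_rt cs hxy, rt_nonneg h⟩

theorem lt_of_pos {x y : Fin n × Bool} (hxy : Ok x y) (h : rt x y ∈ RGD.Pos cs (isCartan n)) :
    ps x + ps y < 2 * n + 1 := by
  have h0 : ps x + ps y ≠ 2 * n + 1 := ps_add (ok_iff.1 hxy)
  by_contra hcon
  have h1 := ps_ng x
  have h2 := ps_ng y
  have h3 := rt_pos cs hxy.ng (show ps (ng x) + ps (ng y) < 2 * n + 1 by omega)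
  rw [rt_ng] at h3
  have h4 : rt x y = 0 := le_antisymm (by have := h3.2; rwa [Left.nonneg_neg_iff] at this) h.2
  exact h.1.ne_zero h4

theorem exists_of_pos {r : Fin n → ℤ} (h : r ∈ RGD.Pos cs (isCartan n)) :
    ∃ x y, Ok x y ∧ r = rt x y ∧ ps x + ps y < 2 * n + 1 := by
  obtain ⟨x, y, hxy, rfl⟩ := exists_rt h.1
  exact ⟨x, y, hxy, rfl, lt_of_pos cs hxy h⟩

/-! ### the diagram -/

theorem B_apply (i j : Fin n) : CoxeterMatrix.B n i j = if i = j then 1 else
    if ((i : ℕ) = n - 1 ∧ (j : ℕ) = n - 2) ∨ ((j : ℕ) = n - 1 ∧ (i : ℕ) = n - 2) then 4 else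
      if (j : ℕ) + 1 = i ∨ (i : ℕ) + 1 = j then 3 else 2 := rfl

theorem B_four {i j : Fin n} (h : CoxeterMatrix.B n i j = 4) :
    ((i : ℕ) = n - 1 ∧ (j : ℕ) = n - 2) ∨ ((j : ℕ) = n - 1 ∧ (i : ℕ) = n - 2) := by
  rw [B_apply] at h
  by_contra hcon
  rw [if_neg hcon] at h
  split_ifs at h <;> omega

theorem B_three {i j : Fin n} (h : CoxeterMatrix.B n i j = 3) :
    ¬ (((i : ℕ) = n - 1 ∧ (j : ℕ) = n - 2) ∨ ((j : ℕ) = n - 1 ∧ (i : ℕ) = n - 2)) ∧
      ((j : ℕ) + 1 = i ∨ (i : ℕ) + 1 = j) := by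
  rw [B_apply] at h
  split_ifs at h with h1 h2 h3
  · omega
  · omega
  · exact ⟨h2, h3⟩
  · omega

/-- The diagram `B_n`, `n ≥ 3`, has no symmetries. -/
theorem sym_B (hn : 3 ≤ n) {σ : Equiv.Perm (Fin n)}
    (hσ : ∀ i j, CoxeterMatrix.B n (σ i) (σ j) = CoxeterMatrix.B n i j) : σ = 1 := by
  let a : Fin n := ⟨n - 1, by omega⟩
  let b : Fin n := ⟨n - 2, by omega⟩
  let c : Fin n := ⟨n - 3, by omega⟩
  have hab : CoxeterMatrix.B n a b = 4 := by
    rw [B_apply, if_neg (fun h => by have := congrArg Fin.val h; simp only [a, b] at this; omega),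
      if_pos (Or.inl ⟨rfl, rfl⟩)]
  have hbc : CoxeterMatrix.B n b c = 3 := by
    rw [B_apply, if_neg (fun h => by have := congrArg Fin.val h; simp only [b, c] at this; omega), if_neg, if_pos]
    · left; simp only [b, c]; omega
    · simp only [b, c]; omega
  have h1 := B_four (show CoxeterMatrix.B n (σ a) (σ b) = 4 by rw [hσ]; exact hab)
  have h2 := B_three (show CoxeterMatrix.B n (σ b) (σ c) = 3 by rw [hσ]; exact hbc)
  have ha : σ a = a ∧ σ b = b := by
    rcases h1 with h1 | h1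
    · exact ⟨Fin.ext h1.1, Fin.ext h1.2⟩
    · exfalso
      have := (σ c).2
      omega
  have key : ∀ m : ℕ, ∀ i j : Fin n, (i : ℕ) + m = n - 2 → (j : ℕ) = i + 1 → σ i = i ∧ σ j = j := by
    intro m
    induction m with
    | zero =>
      intro i j hi hj
      have e1 : i = b := Fin.ext (by simp only [b]; omega)
      have e2 : j = a := Fin.ext (by simp only [a]; omega)
      rw [e1, e2]
      exact ⟨ha.2, ha.1⟩
    | succ m ih =>
      intro i j hi hj
      have hk : (j : ℕ) + 1 < n := by omega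
      obtain ⟨h3, h4⟩ := ih j ⟨(j : ℕ) + 1, hk⟩ (by omega) rfl
      refine ⟨?_, h3⟩
      have h5 : CoxeterMatrix.B n j i = 3 := by
        rw [B_apply, if_neg (fun h => by have := congrArg Fin.val h; omega), if_neg (by omega), if_pos (by omega)]
      have h6 := B_three (show CoxeterMatrix.B n (σ j) (σ i) = 3 by rw [hσ]; exact h5)
      rw [h3] at h6
      have h7 : σ i ≠ ⟨(j : ℕ) + 1, hk⟩ := by
        intro h8
        rw [← h4] at h8
        have := congrArg Fin.val (σ.injective h8)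
        simp only at this
        omega
      have h8 : ((σ i : Fin n) : ℕ) ≠ j + 1 := fun h9 => h7 (Fin.ext h9)
      exact Fin.ext (by omega)
  ext i
  rw [Equiv.Perm.one_apply]
  congr 1
  by_cases hi : (i : ℕ) + 1 < n
  · exact (key (n - 2 - i) i ⟨(i : ℕ) + 1, hi⟩ (by omega) rfl).1
  · have e : i = a := Fin.ext (by simp only [a]; omega)
    rw [e]; exact ha.1

end Cfsg.Agent.OddHalf.D4.MinusB
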