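import Mathlib
import Cfsg.Agent.OddHalf.D4.MinusB.Comb
import Cfsg.Agent.OddHalf.DblR.SheetMinus

/-!
# ODD, D4, (1B), `PΩ⁻`: semilinear lifts of automorphisms

helper328. `Lf α σ g` : the automorphism `α` is induced by the `σ`-semilinear isometry `g`; `Lf.b`, `Lf.V0` : the lift
of a frame automorphism; `Lf.triv` : the lift of `1` is trivial.
-/

set_option autoImplicit false
set_option linter.unusedSectionVars false

namespace Cfsg.Agent.OddHalf.D4.MinusB

open CoxeterSystem Cfsg.Agent.ChevalleyStructure.CoxeterGeom Cfsg.Agent.Tits.Roots Cfsg.Agent.Nodes.TypeC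
  Cfsg.Agent.Tits.RootComb
open Cfsg.Agent.Nodes.Comb Cfsg.Agent.Nodes.Reps Cfsg.Agent.Nodes.WittRoot Cfsg.Agent.Nodes.BNOf
  Cfsg.Agent.Nodes.StabComb Cfsg.Agent.Nodes.Coroot Cfsg.Agent.Nodes.KindBC Cfsg.Agent.Nodes.TypeCForm
  Cfsg.Agent.Nodes.Bruhat Cfsg.Agent.Nodes.PosPair
open Cfsg.Agent Cfsg.Agent.TitsThree Cfsg.Agent.TitsThree.Siegel Cfsg.Agent.TitsThree.WittFrame
  Cfsg.Agent.TitsThree.WittWeyl Cfsg.Agent.TitsThree.FrameCN Cfsg.Agent.TitsThree.LineBorel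
open Cfsg.Agent.KFacts.WittOrth Cfsg.Agent.OddHalf.DblR.MinusComb Cfsg.Agent.OddHalf.DblR.SheetMinus

variable {F : Type*} [Field F] {V : Type*} [AddCommGroup V] [Module F V] {H : HForm F V} {n : ℕ}
  {Fr : Frame H (Fin n)} {K : Type*} [Group K] {M : Model Fr K}

/-- the quadratic form -/
structure Qd (Fr : Frame H (Fin n)) (q : V → F) : Prop where
  qadd : ∀ v w, q (v + w) = q v + q w + H.h v w
  qsmul : ∀ (a : F) v, q (a • v) = a * a * q v
  qb : ∀ x, q (Fr.b x) = 0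
  qok : ∀ w ∈ Fr.V0, Fr.ok w (q w)

/-- the natural representation -/
structure Rep (M : Model Fr K) (q : V → F) (ψ : K →* (V ≃ₗ[F] V)) : Prop where
  inj : Function.Injective ψ
  X : ∀ x y t, ψ (M.X x y t) = Fr.X x y t
  Z : ∀ x p, ψ (M.Z x p) = Fr.Z x p
  q : ∀ u v, q (ψ u v) = q v

section Formulas

variable (O : KFacts.WittOrth.Orth Fr)

include O

theorem X_ap {x y : Fin n × Bool} (hxy : x.1 ≠ y.1) (t : F) (v : V) :
    Fr.X x y t v = v + (t * H.h v (Fr.b x)) • Fr.b y + (t * H.h v (Fr.b y)) • Fr.b x := by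
  rw [X_apply Fr hxy, O.sc, O.ε, O.σ, sub_eq_add_neg, O.negV]
  congr 2
  · rw [mul_comm]
  · rw [inv_one, one_mul]

theorem Z_ap (x : Fin n × Bool) (p : Fr.Adm) (v : V) :
    Fr.Z x p v = v + H.h v (Fr.b x) • p.w + (H.h v p.w) • Fr.b x + (p.c * H.h v (Fr.b x)) • Fr.b x := by
  rw [Z_apply, O.ε, sub_eq_add_neg, O.negV, inv_one, one_mul]

theorem h_self' {q : V → F} (Q : Qd Fr q) (v : V) : H.h v v = 0 := by
  have h1 := Q.qadd v v
  have h2 := Q.qsmul 0 v
  rw [O.addV, ← zero_smul F v, h2, mul_zero, zero_mul, O.add_self, zero_add] at h1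
  exact h1.symm

theorem adm_c' {q : V → F} (Q : Qd Fr q) (p : Fr.Adm) : p.c = q p.w := by
  have h1 : (⟨p.w, q p.w, Q.qok _ (Fr.ok_mem p.ok)⟩ : Fr.Adm) = p := O.adm_ext rfl
  exact (congrArg Frame.Adm.c h1).symm

theorem q_ne {q : V → F} (Q : Qd Fr q) {w : V} (hw : w ∈ Fr.V0) (h : q w = 0) : w = 0 := by
  have h1 := Q.qok w hw
  rw [h] at h1
  exact O.ok0 w h1

end Formulas

/-- `α` is induced by the `σ`-semilinear isometry `g` -/
structure Lf (ψ : K →* (V ≃ₗ[F] V)) (q : V → F) (α : MulAut K) (σ : F ≃+* F) (g : Equiv.Perm V) : Prop where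
  add : ∀ u v, g (u + v) = g u + g v
  smul : ∀ (a : F) v, g (a • v) = σ a • g v
  q : ∀ v, q (g v) = σ (q v)
  it : ∀ x v, ψ (α x) (g v) = g (ψ x v)

variable {ψ : K →* (V ≃ₗ[F] V)} {q : V → F}

namespace Lf

variable {α β : MulAut K} {σ τ : F ≃+* F} {g k : Equiv.Perm V}

theorem one : Lf ψ q (1 : MulAut K) (1 : F ≃+* F) (1 : Equiv.Perm V) :=
  ⟨fun _ _ => rfl, fun _ _ => rfl, fun _ => rfl, fun _ _ => rfl⟩

theorem map_zero (hα : Lf ψ q α σ g) : g 0 = 0 := by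
  have h1 := hα.add 0 0
  rw [add_zero] at h1
  exact (left_eq_add.1 h1)

theorem mul (hα : Lf ψ q α σ g) (hβ : Lf ψ q β τ k) : Lf ψ q (α * β) (σ * τ) (g * k) where
  add u v := by
    show g (k (u + v)) = g (k u) + g (k v)
    rw [hβ.add, hα.add]
  smul a v := by
    show g (k (a • v)) = σ (τ a) • g (k v)
    rw [hβ.smul, hα.smul]
  q v := by
    show q (g (k v)) = σ (τ (q v))
    rw [hα.q, hβ.q]
  it x v := by
    show ψ (α (β x)) (g (k v)) = g (k (ψ x v))
    rw [hα.it, hβ.it]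

theorem pow (hα : Lf ψ q α σ g) (m : ℕ) : Lf ψ q (α ^ m) (σ ^ m) (g ^ m) := by
  induction m with
  | zero => exact one
  | succ m ih =>
    rw [pow_succ, pow_succ, pow_succ]
    exact ih.mul hα

theorem inv (hα : Lf ψ q α σ g) : Lf ψ q α⁻¹ σ⁻¹ g⁻¹ where
  add u v := by
    apply g.injective
    show g (g.symm (u + v)) = g (g.symm u + g.symm v)
    rw [g.apply_symm_apply, hα.add, g.apply_symm_apply, g.apply_symm_apply]
  smul a v := by
    apply g.injective
    show g (g.symm (a • v)) = g (σ.symm a • g.symm v)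
    rw [g.apply_symm_apply, hα.smul, g.apply_symm_apply, σ.apply_symm_apply]
  q v := by
    apply σ.injective
    show σ (q (g.symm v)) = σ (σ.symm (q v))
    rw [← hα.q, g.apply_symm_apply, σ.apply_symm_apply]
  it x v := by
    apply g.injective
    show g (ψ (α⁻¹ x) (g.symm v)) = g (g.symm (ψ x v))
    rw [← hα.it, MulAut.apply_inv_self, g.apply_symm_apply, g.apply_symm_apply]

theorem conj (P : Rep M q ψ) (u : K) : Lf ψ q (MulAut.conj u) (1 : F ≃+* F) (ψ u).toEquiv where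
  add v w := (ψ u).map_add v w
  smul a v := (ψ u).map_smul a v
  q v := P.q u v
  it x v := by
    show ψ (u * x * u⁻¹) (ψ u v) = ψ u (ψ x v)
    rw [map_mul, map_mul, map_inv]
    show ψ u (ψ x ((ψ u)⁻¹ (ψ u v))) = _
    congr 2
    exact (ψ u).symm_apply_apply v

theorem h (hα : Lf ψ q α σ g) (Q : Qd Fr q) (v w : V) : H.h (g v) (g w) = σ (H.h v w) := by
  have h1 := Q.qadd (g v) (g w)
  rw [← hα.add, hα.q, hα.q, hα.q, Q.qadd, map_add, map_add] at h1
  exact (add_left_cancel h1).symm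

section Frame

variable (O : KFacts.WittOrth.Orth Fr) (P : Rep M q ψ) (Q : Qd Fr q)

include O P Q

/-- the image of `b x` under the lift of an automorphism fixing the root groups -/
theorem b (hα : Lf ψ q α σ g) (hX : ∀ x y : Fin n × Bool, x.1 ≠ y.1 → ∃ t, α (M.X x y 1) = M.X x y t)
    {x y : Fin n × Bool} (hxy : x.1 ≠ y.1) : ∃ l : F, l ≠ 0 ∧ g (Fr.b x) = l • Fr.b x := by
  have key : ∀ y : Fin n × Bool, x.1 ≠ y.1 → ∃ a b : F, g (Fr.b x) = a • Fr.b y + b • Fr.b x := by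
    intro y hxy
    obtain ⟨t, ht⟩ := hX x y hxy
    have h1 := hα.it (M.X x y 1) (Fr.b (ng y))
    have e1 : H.h (Fr.b (ng y)) (Fr.b x) = 0 := Fr.hb_of_ne (x := ng y) (y := x) (Ne.symm hxy)
    rw [ht, P.X, P.X, X_ap O hxy, X_ap O hxy, e1, O.hbb', one_mul, one_mul, zero_smul, add_zero, one_smul,
      hα.add, add_assoc] at h1
    exact ⟨_, _, (add_left_cancel h1).symm⟩
  obtain ⟨a, b, h1⟩ := key y hxy
  obtain ⟨a', b', h2⟩ := key (ng y) hxy
  have h3 := congrArg (fun v => H.h v (Fr.b (ng y))) (h1.symm.trans h2)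
  have e1 : H.h (Fr.b x) (Fr.b (ng y)) = 0 := Fr.hb_of_ne (x := x) (y := ng y) hxy
  simp only [H.add_left, H.smul_left, O.hbb, e1, Fr.hb_self, mul_zero, mul_one, add_zero] at h3
  rw [h3, zero_smul, zero_add] at h1
  refine ⟨b, ?_, h1⟩
  rintro rfl
  rw [zero_smul] at h1
  exact O.b_ne x (g.injective (by rw [h1, hα.map_zero]))

/-- the lift preserves `V0` -/
theorem V0 (hα : Lf ψ q α σ g) (hb : ∀ x, ∃ l : F, l ≠ 0 ∧ g (Fr.b x) = l • Fr.b x) {w : V} (hw : w ∈ Fr.V0) :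
    g w ∈ Fr.V0 := by
  apply O.V0
  intro x
  obtain ⟨l, hl, e⟩ := hb x
  have h1 := hα.h Q w (Fr.b x)
  rw [e, H.smul_right, O.σ, Fr.h0' x hw, _root_.map_zero] at h1
  exact (mul_eq_zero.1 h1).resolve_left hl

/-- **The lift of `1` is trivial.** -/
theorem triv (hn : 2 ≤ n) (hα : Lf ψ q (1 : MulAut K) σ g) : σ = 1 ∧ ∀ v, g v = v := by
  have hX : ∀ x y : Fin n × Bool, x.1 ≠ y.1 → ∃ t, (1 : MulAut K) (M.X x y 1) = M.X x y t :=
    fun x y _ => ⟨1, rfl⟩
  have hex : ∀ x : Fin n × Bool, ∃ y : Fin n × Bool, x.1 ≠ y.1 := by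
    intro x
    by_cases h0 : (x.1 : ℕ) = 0
    · exact ⟨(⟨1, by omega⟩, true), fun h1 => by have := congrArg Fin.val h1; simp only at this; omega⟩
    · exact ⟨(⟨0, by omega⟩, true), fun h1 => by have := congrArg Fin.val h1; simp only at this; omega⟩
  have hb : ∀ x, ∃ l : F, l ≠ 0 ∧ g (Fr.b x) = l • Fr.b x := by
    intro x
    obtain ⟨y, hy⟩ := hex x
    exact hα.b O P Q hX hy
  choose l hl hlb using hb
  have hrel : ∀ x y : Fin n × Bool, x.1 ≠ y.1 → ∀ t, t * l (ng y) = σ t * l x := by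
    intro x y hxy t
    have h1 := hα.it (M.X x y t) (Fr.b (ng y))
    have e1 : H.h (Fr.b (ng y)) (Fr.b x) = 0 := Fr.hb_of_ne (x := ng y) (y := x) (Ne.symm hxy)
    rw [MulAut.one_apply, P.X, X_ap O hxy, X_ap O hxy, hlb, H.smul_left, H.smul_left, e1, O.hbb', mul_zero, mul_zero,
      zero_smul, add_zero, mul_one, mul_one, add_zero, hα.add, hα.smul, hlb, hlb, smul_smul] at h1
    have h2 := add_left_cancel h1
    have h3 := congrArg (fun v => H.h v (Fr.b (ng x))) h2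
    simp only [H.smul_left, O.hbb, mul_one] at h3
    exact h3
  have h1 : ∀ x y : Fin n × Bool, x.1 ≠ y.1 → l (ng y) = l x := by
    intro x y hxy
    have := hrel x y hxy 1
    rwa [one_mul, map_one, one_mul] at this
  have h2 : ∀ x : Fin n × Bool, l x = 1 := by
    intro x
    obtain ⟨y, hy⟩ := hex x
    have e1 := h1 y x (Ne.symm hy)
    have e2 := h1 y (ng x) (Ne.symm hy)
    rw [ng_ng] at e2
    have h3 := hα.h Q (Fr.b x) (Fr.b (ng x))
    rw [hlb, hlb, H.smul_left, H.smul_right, O.σ, O.hbb, map_one, mul_one, e1, ← e2] at h3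
    have h4 : (l x + 1) * (l x + 1) = 0 := by
      have : (l x + 1) * (l x + 1) = l x * l x + 1 + 2 * l x := by ring
      rw [this, h3, O.two, O.add_self]; ring
    exact O.eq_of_add (mul_self_eq_zero.1 h4)
  have hσ : σ = 1 := by
    ext t
    let x : Fin n × Bool := (⟨0, by omega⟩, true)
    obtain ⟨y, hy⟩ := hex x
    have := hrel x y hy t
    rw [h2, h2, mul_one, mul_one] at this
    exact this.symm
  refine ⟨hσ, ?_⟩
  subst hσ
  have hb1 : ∀ x, g (Fr.b x) = Fr.b x := fun x => by rw [hlb, h2, one_smul]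
  have hw1 : ∀ w ∈ Fr.V0, g w = w := by
    intro w hw
    obtain ⟨p, rfl⟩ := O.exists_adm hw
    let x : Fin n × Bool := (⟨0, by omega⟩, true)
    have h3 := hα.it (M.Z x p) (Fr.b (ng x))
    rw [MulAut.one_apply, P.Z, hb1, Z_ap O, O.hbb', one_smul, Fr.h0 _ _ (Fr.ok_mem p.ok), zero_smul, add_zero,
      mul_one, hα.add, hα.add, hα.smul, hb1, hb1] at h3
    have h4 := add_right_cancel h3
    exact (add_left_cancel h4).symm
  let gl : V ≃ₗ[F] V := { g with map_add' := hα.add, map_smul' := hα.smul }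
  have h5 : gl = 1 := O.eq_one hb1 hw1
  intro v
  exact congrArg (fun k : V ≃ₗ[F] V => k v) h5

/-- lifts of elements of finite order -/
theorem pow_eq (hn : 2 ≤ n) (hα : Lf ψ q α σ g) {m : ℕ} (hm : α ^ m = 1) : σ ^ m = 1 ∧ g ^ m = 1 := by
  have h1 := hα.pow m
  rw [hm] at h1
  obtain ⟨h2, h3⟩ := h1.triv O P Q hn
  exact ⟨h2, Equiv.ext h3⟩

end Frame

end Lf

end Cfsg.Agent.OddHalf.D4.MinusB
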