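import Mathlib
import Cfsg.Agent.OddHalf.D4.MinusB.Lift
import Cfsg.Agent.OddHalf.D4.MinusB.Chain
import Cfsg.Agent.KFacts.RgdRigid
import Cfsg.Agent.KFacts.RgdAutFacts

/-!
# ODD, D4, (1B), `PΩ⁻`: frame automorphisms, the field part

helper328.
-/

set_option autoImplicit false
set_option linter.unusedSectionVars false

namespace Cfsg.Agent.OddHalf.D4.MinusB

open CoxeterSystem Cfsg.Agent.ChevalleyStructure.CoxeterGeom Cfsg.Agent.Tits.Roots Cfsg.Agent.Nodes.TypeC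
  Cfsg.Agent.Tits.RootComb
open Cfsg.Agent.Nodes.Comb Cfsg.Agent.Nodes.Reps Cfsg.Agent.Nodes.WittRoot Cfsg.Agent.Nodes.BNOf
  Cfsg.Agent.Nodes.StabComb Cfsg.Agent.Nodes.Coroot Cfsg.Agent.Nodes.KindBC Cfsg.Agent.Nodes.TypeCForm
  Cfsg.Agent.Nodes.Bruhat Cfsg.Agent.Nodes.PosPair Cfsg.Agent.Nodes.OppDec
open Cfsg.Agent Cfsg.Agent.TitsThree Cfsg.Agent.TitsThree.Siegel Cfsg.Agent.TitsThree.WittFrame
  Cfsg.Agent.TitsThree.WittWeyl Cfsg.Agent.TitsThree.FrameCN Cfsg.Agent.TitsThree.LineBorel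
open Cfsg.Agent.KFacts.WittOrth Cfsg.Agent.OddHalf.DblR.MinusComb Cfsg.Agent.OddHalf.DblR.SheetMinus
open Cfsg.Agent.KFacts.RgdAut Cfsg.Agent.KFacts.RgdDiag Cfsg.Agent.KFacts.RgdRigid Cfsg.Agent.KFacts.RgdTI
  Cfsg.Agent.KFacts.RgdCent Cfsg.Agent.OddHalf.D4.Free

variable {F : Type*} [Field F] {V : Type*} [AddCommGroup V] [Module F V] {H : HForm F V} {n : ℕ}
  {Fr : Frame H (Fin n)} {K : Type*} [Group K] {M : Model Fr K} {ψ : K →* (V ≃ₗ[F] V)} {q : V → F}

/-- `Rep` from the action of the root elements -/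
theorem Rep.mk' (O : KFacts.WittOrth.Orth Fr) (Q : Qd Fr q) (hn : 0 < n) {W : Type*} [Group W]
    (cs : CoxeterSystem (CoxeterMatrix.B n) W) (hI : ∀ g ∈ M.I, H.IsIso g) :
    Rep M q (KFacts.SpecMinus.ψ M O hI hn cs) := by
  have hX : ∀ x y t, KFacts.SpecMinus.ψ M O hI hn cs (M.X x y t) = Fr.X x y t :=
    fun x y t => KFacts.SpecMinus.ψ_φ M O hI hn cs _
  have hZ : ∀ x p, KFacts.SpecMinus.ψ M O hI hn cs (M.Z x p) = Fr.Z x p :=
    fun x p => KFacts.SpecMinus.ψ_φ M O hI hn cs _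
  refine ⟨KFacts.SpecMinus.ψ_inj M O hI hn cs, hX, hZ, ?_⟩
  have hXq : ∀ x y t v, q (Fr.X x y t v) = q v := by
    intro x y t v
    by_cases hxy : x.1 ≠ y.1
    · rw [X_ap O hxy, Q.qadd, Q.qadd, Q.qsmul, Q.qsmul, Q.qb, Q.qb, H.add_left, H.smul_left, H.smul_right, H.smul_right,
        H.smul_right, Fr.hb_of_ne hxy.symm, O.σ, O.σ]
      linear_combination (t * H.h v (Fr.b x) * H.h v (Fr.b y)) * O.two
    · rw [Frame.X, dif_neg hxy]; rfl
  have hZq : ∀ x p v, q (Fr.Z x p v) = q v := by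
    intro x p v
    have hc := adm_c' O Q p
    rw [Z_ap O, Q.qadd, Q.qadd, Q.qadd, Q.qsmul, Q.qsmul, Q.qsmul, Q.qb, ← hc, H.add_left, H.add_left, H.smul_left]
    simp only [H.smul_right, H.smul_left, H.add_left, Fr.h0' x (Fr.ok_mem p.ok), Fr.hb_self, O.σ]
    linear_combination (p.c * (H.h v (Fr.b x) * H.h v (Fr.b x)) + H.h v (Fr.b x) * H.h v p.w) * O.two
  let S : Subgroup K :=
    { carrier := {u | ∀ v, q (KFacts.SpecMinus.ψ M O hI hn cs u v) = q v}
      mul_mem' := by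
        intro a b ha hb v
        rw [map_mul]
        show q (KFacts.SpecMinus.ψ M O hI hn cs a (KFacts.SpecMinus.ψ M O hI hn cs b v)) = q v
        rw [ha, hb]
      one_mem' := by intro v; rw [map_one]; rfl
      inv_mem' := by
        intro a ha v
        have h1 := ha ((KFacts.SpecMinus.ψ M O hI hn cs a)⁻¹ v)
        rw [map_inv, ← h1]
        congr 1
        exact ((KFacts.SpecMinus.ψ M O hI hn cs a).apply_symm_apply v) }
  have hS : S = ⊤ := by
    rw [eq_top_iff, ← Nodes.WittModel.G1_eq_top M hn cs]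
    refine iSup_le ?_
    rintro ⟨x, hx⟩
    obtain ⟨a, b, hab, rfl⟩ := exists_rt hx
    rcases hab with hab | rfl
    · intro u hu
      obtain ⟨t, rfl⟩ := (mem_X_ne M hab).1 hu
      intro v
      rw [hX, hXq]
    · intro u hu
      obtain ⟨p, rfl⟩ := (mem_X_self M).1 hu
      intro v
      rw [hZ, hZq]
  intro u v
  have : u ∈ S := by rw [hS]; exact Subgroup.mem_top u
  exact this v

variable {W : Type*} [Group W] {cs : CoxeterSystem (CoxeterMatrix.B n) W} [Finite W] {T : Subgroup K} {nn : Fin n → K}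

/-- a frame automorphism with trivial diagram symmetry -/
theorem diag_X (R : RGD cs (isCartan n) 2 T nn (Nodes.WittModel.X M)) {β : MulAut K}
    (D : Diag T (Nodes.WittModel.X M) β 1) {x y : Fin n × Bool} (hxy : x.1 ≠ y.1) (s : F) :
    ∃ t, β (M.X x y s) = M.X x y t := by
  have h1 := (D.root_comp R (fun _ _ => rfl) (isRoot_rt cs (Or.inl hxy)) (M.X x y s)).2
    ((mem_X_ne M hxy).2 ⟨s, rfl⟩)
  exact (mem_X_ne M hxy).1 h1

theorem diag_Z (R : RGD cs (isCartan n) 2 T nn (Nodes.WittModel.X M)) {β : MulAut K}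
    (D : Diag T (Nodes.WittModel.X M) β 1) (x : Fin n × Bool) (p : Fr.Adm) :
    ∃ p', β (M.Z x p) = M.Z x p' := by
  have h1 := (D.root_comp R (fun _ _ => rfl) (isRoot_rt cs (Or.inr rfl)) (M.Z x p)).2
    ((mem_X_self M).2 ⟨p, rfl⟩)
  exact (mem_X_self M).1 h1

theorem eq_one_of_pow_two {F : Type*} [Field F] (h2 : (2 : F) = 0) {l : F} {m : ℕ} (h : l ^ 2 ^ m = 1) : l = 1 := by
  induction m with
  | zero => simpa using h
  | succ m ih =>
    apply ih
    rw [pow_succ, pow_mul] at h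
    have h3 : (l ^ 2 ^ m + 1) * (l ^ 2 ^ m + 1) = 0 := by
      have : (l ^ 2 ^ m + 1) * (l ^ 2 ^ m + 1) = (l ^ 2 ^ m) ^ 2 + 1 + 2 * l ^ 2 ^ m := by ring
      rw [this, h, h2]
      have h4 : (1 : F) + 1 = 2 := by norm_num
      rw [h4, h2]; ring
    have h5 := mul_self_eq_zero.1 h3
    have h6 := eq_neg_of_add_eq_zero_left h5
    rw [h6]
    have h7 : (1 : F) + 1 = 0 := by rw [← h2]; norm_num
    exact neg_eq_of_add_eq_zero_left h7

section Frame

variable (O : KFacts.WittOrth.Orth Fr) (P : Rep M q ψ) (Q : Qd Fr q)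
  (R : RGD cs (isCartan n) 2 T nn (Nodes.WittModel.X M)) (hn : 3 ≤ n)

include O P Q R hn

theorem exists_ne (x : Fin n × Bool) : ∃ y : Fin n × Bool, x.1 ≠ y.1 := by
  obtain ⟨y, hy, -⟩ := DblR.MinusComb.exists_out hn x x
  exact ⟨y, Ne.symm hy⟩

/-- the frame is fixed up to scalars -/
theorem frame_b {β : MulAut K} (D : Diag T (Nodes.WittModel.X M) β 1) {σ : F ≃+* F} {g : Equiv.Perm V}
    (L : Lf ψ q β σ g) (x : Fin n × Bool) : ∃ l : F, l ≠ 0 ∧ g (Fr.b x) = l • Fr.b x := by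
  obtain ⟨y, hxy⟩ := exists_ne O P Q R hn x
  exact L.b O P Q (fun x y hxy => diag_X R D hxy 1) hxy

/-- linear frame automorphisms of 2-power order fix the frame -/
theorem frame_lin {β : MulAut K} (D : Diag T (Nodes.WittModel.X M) β 1) {g : Equiv.Perm V} (L : Lf ψ q β 1 g) {m : ℕ}
    (hm : β ^ 2 ^ m = 1) (x : Fin n × Bool) : g (Fr.b x) = Fr.b x := by
  obtain ⟨l, hl, e⟩ := frame_b O P Q R hn D L x
  have h1 : ∀ k : ℕ, (g ^ k) (Fr.b x) = l ^ k • Fr.b x := by
    intro k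
    induction k with
    | zero => rw [pow_zero, pow_zero, one_smul]; rfl
    | succ k ih =>
      rw [pow_succ', Equiv.Perm.mul_apply, ih, L.smul, e, smul_smul, pow_succ]
      rfl
  have h2 := (L.pow_eq O P Q (by omega) hm).2
  have h3 := h1 (2 ^ m)
  rw [h2, Equiv.Perm.one_apply] at h3
  have h4 : l ^ 2 ^ m = 1 := by
    have h5 := congrArg (fun v => H.h v (Fr.b (ng x))) h3
    simp only [H.smul_left, O.hbb, mul_one] at h5
    exact h5.symm
  rw [e, eq_one_of_pow_two O.two h4, one_smul]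

/-- the action of a linear frame automorphism of 2-power order on the long root groups is trivial -/
theorem frame_X {β : MulAut K} (D : Diag T (Nodes.WittModel.X M) β 1) {g : Equiv.Perm V} (L : Lf ψ q β 1 g) {m : ℕ}
    (hm : β ^ 2 ^ m = 1) {x y : Fin n × Bool} (hxy : x.1 ≠ y.1) (s : F) : β (M.X x y s) = M.X x y s := by
  obtain ⟨t, ht⟩ := diag_X R D hxy s
  have h1 := L.it (M.X x y s) (Fr.b (ng y))
  have e1 : H.h (Fr.b (ng y)) (Fr.b x) = 0 := Fr.hb_of_ne (x := ng y) (y := x) (Ne.symm hxy)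
  have hb := frame_lin O P Q R hn D L hm
  rw [ht, P.X, P.X, X_ap O hxy, X_ap O hxy, hb, e1, O.hbb', mul_zero, mul_zero, zero_smul, add_zero, mul_one, mul_one,
    L.add, L.smul, hb, hb] at h1
  have h2 := add_left_cancel h1
  have h3 := congrArg (fun v => H.h v (Fr.b (ng x))) h2
  simp only [H.smul_left, O.hbb, mul_one] at h3
  rw [ht, h3]; rfl

/-- the action on the short root groups -/
theorem frame_Z {β : MulAut K} (D : Diag T (Nodes.WittModel.X M) β 1) {g : Equiv.Perm V} (L : Lf ψ q β 1 g) {m : ℕ}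
    (hm : β ^ 2 ^ m = 1) {x : Fin n × Bool} {p p' : Fr.Adm} : β (M.Z x p) = M.Z x p' ↔ p'.w = g p.w := by
  have hb := frame_lin O P Q R hn D L hm
  have key : ∀ p', β (M.Z x p) = M.Z x p' → p'.w = g p.w := by
    intro p' hp'
    have h1 := L.it (M.Z x p) (Fr.b (ng x))
    have hcc : p'.c = p.c := by
      have e3 := congrArg q h1
      have h2 := congrArg (fun v => H.h v (Fr.b (ng x))) h1
      rw [hp', P.Z, P.Z, Z_ap O, Z_ap O, hb, O.hbb', Fr.h0 _ _ (Fr.ok_mem p.ok), Fr.h0 _ _ (Fr.ok_mem p'.ok), one_smul,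
        one_smul, zero_smul, add_zero, add_zero, mul_one, mul_one, L.add, L.add, L.smul, hb, hb] at h2
      have h4 : H.h (g p.w) (Fr.b (ng x)) = 0 :=
        Fr.h0' _ (L.V0 O P Q (frame_b O P Q R hn D L) (Fr.ok_mem p.ok))
      simp only [H.add_left, H.smul_left, O.hbb, Fr.hb_self, Fr.h0' _ (Fr.ok_mem p'.ok), h4, mul_one, zero_add] at h2
      exact h2
    rw [hp', P.Z, P.Z, Z_ap O, Z_ap O, hb, O.hbb', Fr.h0 _ _ (Fr.ok_mem p.ok), Fr.h0 _ _ (Fr.ok_mem p'.ok), one_smul,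
      one_smul, zero_smul, add_zero, add_zero, mul_one, mul_one, L.add, L.add, L.smul, hb, hb, hcc] at h1
    have h5 := add_right_cancel h1
    exact add_left_cancel h5
  constructor
  · exact key p'
  · intro h1
    obtain ⟨p'', h2⟩ := diag_Z R D x p
    rw [h2, O.adm_ext ((key p'' h2).trans h1.symm)]

end Frame

end Cfsg.Agent.OddHalf.D4.MinusB
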