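import Mathlib
import Cfsg.Agent.OddHalf.D4.MinusB.Frm
import Cfsg.Agent.LieRecognition.FieldSemilinear

/-!
# ODD, D4, (1B), `PΩ⁻`: the centre of the Sylow group and the field part

helper328. `inZ_iff : InZ T z ↔ z ∈ X ρ`; `exists_beta` : the frame automorphism of an element of a 2-group of
automorphisms; `fixZ_iff : FixZ T e ↔ σ = 1`.
-/

set_option autoImplicit false
set_option linter.unusedSectionVars false

namespace Cfsg.Agent.OddHalf.D4.MinusB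

open CoxeterSystem Cfsg.Agent.ChevalleyStructure.CoxeterGeom Cfsg.Agent.Tits.Roots Cfsg.Agent.Nodes.TypeC
  Cfsg.Agent.Tits.RootComb
open Cfsg.Agent.Nodes.Comb Cfsg.Agent.Nodes.Reps Cfsg.Agent.Nodes.WittRoot Cfsg.Agent.Nodes.BNOf
  Cfsg.Agent.Nodes.StabComb Cfsg.Agent.Nodes.Coroot Cfsg.Agent.Nodes.KindBC Cfsg.Agent.Nodes.TypeCForm
  Cfsg.Agent.Nodes.Bruhat Cfsg.Agent.Nodes.PosPair Cfsg.Agent.Nodes.OppDec
open Cfsg.Agent Cfsg.Agent.TitsThree Cfsg.Agent.TitsThree.Siegel Cfsg.Agent.TitsThree.WittFrame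
  Cfsg.Agent.TitsThree.WittWeyl Cfsg.Agent.TitsThree.FrameCN Cfsg.Agent.TitsThree.LineBorel
open Cfsg.Agent.KFacts.WittOrth Cfsg.Agent.OddHalf.DblR.MinusComb Cfsg.Agent.OddHalf.DblR.SheetMinus
open Cfsg.Agent.KFacts.RgdAut Cfsg.Agent.KFacts.RgdDiag Cfsg.Agent.KFacts.RgdRigid Cfsg.Agent.KFacts.RgdTI
  Cfsg.Agent.KFacts.RgdCent Cfsg.Agent.KFacts.RgdCentW Cfsg.Agent.KFacts.RgdSL Cfsg.Agent.OddHalf.D4.Free

variable {F : Type*} [Field F] {V : Type*} [AddCommGroup V] [Module F V] {H : HForm F V} {n : ℕ}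
  {Fr : Frame H (Fin n)} {K : Type*} [Group K] {M : Model Fr K} {ψ : K →* (V ≃ₗ[F] V)} {q : V → F}
  {W : Type*} [Group W] {cs : CoxeterSystem (CoxeterMatrix.B n) W} [Finite W] {Tor : Subgroup K} {nn : Fin n → K}
  [Finite F] [Finite V]

/-- the first two signed indices -/
def i0 (hn : 3 ≤ n) : Fin n × Bool := (⟨0, by omega⟩, true)

def i1 (hn : 3 ≤ n) : Fin n × Bool := (⟨1, by omega⟩, true)

theorem i01 (hn : 3 ≤ n) : (i0 hn).1 ≠ (i1 hn).1 := by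
  intro h
  have := congrArg Fin.val h
  exact absurd this (by show ¬ (0 : ℕ) = 1; omega)

theorem dl_i0 (hn : 3 ≤ n) (c : Fin n × Bool) : (ps c = 0 ∧ dl c (i0 hn) = 1) ∨ (ps c = 2 * n + 1 ∧ dl c (i0 hn) = -1) ∨
    (0 < ps c ∧ ps c < 2 * n + 1 ∧ dl c (i0 hn) = 0) := by
  have e0 : ps (i0 hn) = 0 := rfl
  have e1 := ps_ng (i0 hn)
  rcases dl_cases c (i0 hn) with ⟨rfl, h⟩ | ⟨rfl, h⟩ | ⟨h1, h⟩
  · exact Or.inl ⟨e0, h⟩
  · exact Or.inr (Or.inl ⟨by omega, h⟩)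
  · refine Or.inr (Or.inr ⟨?_, ?_, h⟩)
    · rcases Nat.eq_zero_or_pos (ps c) with h2 | h2
      · exact absurd (congrArg Prod.fst (ps_inj (h2.trans e0.symm))) h1
      · exact h2
    · have := ps_lt c
      rcases Nat.lt_or_ge (ps c) (2 * n + 1) with h2 | h2
      · exact h2
      · exact absurd (congrArg Prod.fst (ps_inj (show ps c = ps (ng (i0 hn)) by omega))) h1

theorem dl_i1 (hn : 3 ≤ n) (c : Fin n × Bool) : (ps c = 1 ∧ dl c (i1 hn) = 1) ∨ (ps c = 2 * n ∧ dl c (i1 hn) = -1) ∨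
    (ps c ≠ 1 ∧ ps c ≠ 2 * n ∧ dl c (i1 hn) = 0) := by
  have e0 : ps (i1 hn) = 1 := rfl
  have e1 := ps_ng (i1 hn)
  rcases dl_cases c (i1 hn) with ⟨rfl, h⟩ | ⟨rfl, h⟩ | ⟨h1, h⟩
  · exact Or.inl ⟨e0, h⟩
  · exact Or.inr (Or.inl ⟨by omega, h⟩)
  · refine Or.inr (Or.inr ⟨fun h2 => ?_, fun h2 => ?_, h⟩)
    · exact absurd (congrArg Prod.fst (ps_inj (h2.trans e0.symm))) h1
    · exact absurd (congrArg Prod.fst (ps_inj (show ps c = ps (ng (i1 hn)) by omega))) h1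

variable (cs) in
/-- positive roots have nonnegative product with the highest root -/
theorem cpr_rho (hn : 3 ≤ n) {a : Fin n → ℤ} (ha : a ∈ RGD.Pos cs (isCartan n)) :
    0 ≤ cpr cs (isCartan n) a (rt (i0 hn) (i1 hn)) := by
  obtain ⟨c, d, hcd, rfl, hlt⟩ := exists_of_pos cs ha
  rw [cpr_ne cs _ (i01 hn), ev_rt, ev_rt]
  have h0 := ps_lt c
  have h0' := ps_lt d
  have hne : c ≠ ng d := fun h => ok_iff.1 hcd.symm h
  rcases dl_i0 hn c with ⟨h1, h2⟩ | ⟨h1, h2⟩ | ⟨h1, h1', h2⟩ <;> rcases dl_i0 hn d with ⟨h3, h4⟩ | ⟨h3, h4⟩ | ⟨h3, h3', h4⟩ <;>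
  rcases dl_i1 hn c with ⟨h5, h6⟩ | ⟨h5, h6⟩ | ⟨h5, h5', h6⟩ <;> rcases dl_i1 hn d with ⟨h7, h8⟩ | ⟨h7, h8⟩ | ⟨h7, h7', h8⟩ <;>
  omega

variable (cs) in
theorem pos_of_cpr (hn : 3 ≤ n) {a : Fin n → ℤ} (ha : IsRoot cs (isCartan n) a)
    (h : 0 < cpr cs (isCartan n) a (rt (i0 hn) (i1 hn))) : a ∈ RGD.Pos cs (isCartan n) := by
  rcases ha.pos_or_neg with h1 | h1
  · exact ⟨ha, h1⟩
  · exfalso
    have h2 := cpr_rho cs hn (a := -a) ⟨ha.neg, by
      intro i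
      have := h1 i
      simp only [Pi.neg_apply, Pi.zero_apply] at this ⊢
      omega⟩
    rw [cpr_neg _ _ _ (isRoot_rt cs (Or.inl (i01 hn)))] at h2
    omega

theorem rho_pos (hn : 3 ≤ n) : rt (i0 hn) (i1 hn) ∈ RGD.Pos cs (isCartan n) :=
  rt_pos cs (Or.inl (i01 hn)) (by
    show (0 : ℕ) + 1 < _
    omega)

section

variable (O : KFacts.WittOrth.Orth Fr) (R : RGD cs (isCartan n) 2 Tor nn (Nodes.WittModel.X M)) (hn : 3 ≤ n)
  (hA : Nodes.WittAll.AmbT Fr 2 M.I) (hN : NoCent cs (isCartan n) Tor (Nodes.WittModel.X M))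
  (hG1 : RGD.Sup (Nodes.WittModel.X M) {x | IsRoot cs (isCartan n) x} = ⊤)

include O R

/-- `X ρ` centralises `U` -/
theorem comm_rho {u z : K} (hz : z ∈ Nodes.WittModel.X M (rt (i0 hn) (i1 hn)))
    (hu : u ∈ RGD.Sup (Nodes.WittModel.X M) (RGD.Pos cs (isCartan n))) : u * z = z * u := by
  have h1 : RGD.Sup (Nodes.WittModel.X M) (RGD.Pos cs (isCartan n)) ≤ Subgroup.centralizer {z} := by
    refine RGD.Sup_le fun a ha v hv => ?_
    rw [Subgroup.mem_centralizer_singleton_iff]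
    exact (lr_of_RB M O R (rt_mem_RB (i01 hn))).comm a ha.1 (cpr_rho cs hn ha) v hv z hz
  exact Subgroup.mem_centralizer_singleton_iff.1 (h1 hu)

include hn hA hN hG1

/-- **`Z(U) = X ρ`** -/
theorem mem_rho {z : K} (hz : ∀ u ∈ RGD.Sup (Nodes.WittModel.X M) (RGD.Pos cs (isCartan n)), u * z = z * u) :
    z ∈ Nodes.WittModel.X M (rt (i0 hn) (i1 hn)) := by
  have h1 := cent R (cfg1 M O R hA hn (i01 hn) (isRoot_rt cs (Or.inl (i01 hn)))) hN (g := z)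
    (by rw [GG_eq_top hG1]; exact Subgroup.mem_top z) (fun a ha h0 v hv => by
      exact (hz v (RGD.le_Sup (pos_of_cpr cs hn ha h0) hv)).symm)
  exact RGD.Sup_le (fun c hc => by rw [Set.mem_singleton_iff] at hc; rw [hc]) h1

variable (T : Sylow 2 K) (hT : (T : Subgroup K) = RGD.Sup (Nodes.WittModel.X M) (RGD.Pos cs (isCartan n)))

include hT

theorem inZ_iff' {z : K} : InZ T z ↔ z ∈ Nodes.WittModel.X M (rt (i0 hn) (i1 hn)) := by
  have hT' : ∀ x, x ∈ T ↔ x ∈ RGD.Sup (Nodes.WittModel.X M) (RGD.Pos cs (isCartan n)) := fun x => by rw [← hT]; rfl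
  constructor
  · rintro ⟨_, h2⟩
    exact mem_rho O R hn hA hN hG1 fun u hu => h2 u ((hT' u).2 hu)
  · intro hz
    exact ⟨(hT' z).2 (RGD.le_Sup (rho_pos hn) hz), fun t ht => comm_rho O R hn hz ((hT' t).1 ht)⟩

omit hA hN hG1 hT in
/-- `σ` of an automorphism fixing a long root group -/
theorem sigma_of_fix (P : Rep M q ψ) {e : MulAut K} {σ : F ≃+* F} {g : Equiv.Perm V} (L : Lf ψ q e σ g)
    {x y : Fin n × Bool} (hxy : x.1 ≠ y.1) (h : ∀ t, e (M.X x y t) = M.X x y t) : σ = 1 := by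
  have key : ∀ t, t • (H.h (g (Fr.b (ng y))) (Fr.b x) • Fr.b y + H.h (g (Fr.b (ng y))) (Fr.b y) • Fr.b x) =
      σ t • g (Fr.b x) := by
    intro t
    have h1 := L.it (M.X x y t) (Fr.b (ng y))
    have e1 : H.h (Fr.b (ng y)) (Fr.b x) = 0 := Fr.hb_of_ne (x := ng y) (y := x) (Ne.symm hxy)
    rw [h, P.X, X_ap O hxy, X_ap O hxy, e1, O.hbb', mul_zero, zero_smul, add_zero, mul_one, L.add, L.smul, add_assoc] at h1
    have h2 := add_left_cancel h1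
    rw [← h2, smul_add, smul_smul, smul_smul]
  have h1 := key 1
  rw [one_smul, map_one, one_smul] at h1
  ext t
  have h2 := key t
  rw [h1] at h2
  have h3 : g (Fr.b x) ≠ 0 := fun h4 => O.b_ne x (g.injective (by rw [h4, L.map_zero]))
  have h4 : (t - σ t) • g (Fr.b x) = 0 := by rw [sub_smul, h2, sub_self]
  exact (sub_eq_zero.1 ((smul_eq_zero.1 h4).resolve_right h3)).symm

theorem sigma_of_fixZ (P : Rep M q ψ) {e : MulAut K} {σ : F ≃+* F} {g : Equiv.Perm V} (L : Lf ψ q e σ g)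
    (h : FixZ T e) : σ = 1 := by
  refine sigma_of_fix O R hn P L (i01 hn) fun t => h _ ?_
  rw [inZ_iff' O R hn hA hN hG1 T hT]
  exact (mem_X_ne M (i01 hn)).2 ⟨t, rfl⟩

/-- (k2) -/
theorem sigma_of_fix_conj (P : Rep M q ψ) {e : MulAut K} {σ : F ≃+* F} {g : Equiv.Perm V} (L : Lf ψ q e σ g) (k : K)
    (h : ∀ z, InZ T z → e (k * z * k⁻¹) = k * z * k⁻¹) : σ = 1 := by
  have L2 := ((Lf.conj P k⁻¹).mul L).mul (Lf.conj P k)
  rw [one_mul, mul_one] at L2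
  refine sigma_of_fix O R hn P L2 (i01 hn) fun t => ?_
  have h1 := h (M.X (i0 hn) (i1 hn) t) ((inZ_iff' O R hn hA hN hG1 T hT).2 ((mem_X_ne M (i01 hn)).2 ⟨t, rfl⟩))
  show k⁻¹ * e (k * M.X (i0 hn) (i1 hn) t * k⁻¹) * k⁻¹⁻¹ = _
  rw [h1]
  group

omit hA hN in
/-- the frame automorphism -/
theorem exists_beta {e : MulAut K} {m : ℕ} (he : e ^ 2 ^ m = 1) (heT : ∀ t ∈ T, e t ∈ T) :
    ∃ u ∈ T, Fix (MulAut.conj u * e) (RGD.Sup (Nodes.WittModel.X M) (RGD.Pos cs (isCartan n))) ∧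
      Fix (MulAut.conj u * e) (UN cs (isCartan n) (Nodes.WittModel.X M)) ∧
      (∀ k : ℕ, e ^ k = 1 → (MulAut.conj u * e) ^ k = 1) ∧ Diag Tor (Nodes.WittModel.X M) (MulAut.conj u * e) 1 := by
  have hT' : ∀ x, x ∈ T ↔ x ∈ RGD.Sup (Nodes.WittModel.X M) (RGD.Pos cs (isCartan n)) := fun x => by rw [← hT]; rfl
  have hpow : ∀ k : ℕ, ∀ t ∈ T, (e ^ k) t ∈ T := by
    intro k
    induction k with
    | zero => intro t ht; exact ht
    | succ k ih =>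
      intro t ht
      rw [pow_succ, MulAut.mul_apply]
      exact ih _ (heT t ht)
  have hfix : Fix e (RGD.Sup (Nodes.WittModel.X M) (RGD.Pos cs (isCartan n))) := by
    intro x
    rw [← hT', ← hT']
    refine ⟨fun hx => ?_, heT x⟩
    have h1 := hpow (2 ^ m - 1) _ hx
    have h2 : e ^ (2 ^ m - 1) * e = 1 := by
      rw [← pow_succ, Nat.sub_add_cancel Nat.one_le_two_pow, he]
    rw [← MulAut.mul_apply, h2] at h1
    exact h1
  obtain ⟨u, hu, hU, hUN, hk, s, D⟩ := exists_frame_pow R (GG_eq_top hG1) hfix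
  have hs : s = 1 := sym_B hn (D.matrix R)
  subst hs
  exact ⟨u, (hT' u).2 hu, hU, hUN, hk, D⟩

omit hA hN hG1 in
/-- elements of `T` fix `Z(T)` -/
theorem conj_fixZ {u z : K} (hu : u ∈ T) (hz : InZ T z) : MulAut.conj u z = z := by
  rw [MulAut.conj_apply, hz.2 u hu, mul_inv_cancel_right]

/-- **linear elements fix `Z(T)`** -/
theorem fixZ_of_lin (P : Rep M q ψ) (Q : Qd Fr q) {e : MulAut K} {g : Equiv.Perm V} (L : Lf ψ q e 1 g) {m : ℕ}
    (he : e ^ 2 ^ m = 1) (heT : ∀ t ∈ T, e t ∈ T) : FixZ T e := by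
  obtain ⟨u, hu, hU, hUN, hk, D⟩ := exists_beta O R hn hG1 T hT he heT
  have L2 := (Lf.conj P u).mul L
  rw [one_mul] at L2
  intro z hz
  obtain ⟨t, rfl⟩ := (mem_X_ne M (i01 hn)).1 ((inZ_iff' O R hn hA hN hG1 T hT).1 hz)
  have h1 := frame_X O P Q R hn D L2 (hk _ he) (i01 hn) t
  rw [MulAut.mul_apply] at h1
  have h2 : e (M.X (i0 hn) (i1 hn) t) = MulAut.conj u⁻¹ (M.X (i0 hn) (i1 hn) t) := by
    rw [map_inv, MulAut.inv_def, MulEquiv.eq_symm_apply]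
    exact h1
  rw [h2]
  exact conj_fixZ O R hn T hT (inv_mem hu) hz

end

/-! ### the Galois group -/

theorem ringAut_cyc {a b : F ≃+* F} (ha : a * a = 1) (hb : b * b = 1) : a = 1 ∨ b = 1 ∨ a⁻¹ * b = 1 := by
  classical
  have hc : IsCyclic (F ≃+* F) := LieRecognition.FieldSemilinear.isCyclic_ringAut F
  have : Finite (F ≃+* F) := Finite.of_injective (fun g : F ≃+* F => (g : F → F)) DFunLike.coe_injective
  have := Fintype.ofFinite (F ≃+* F)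
  by_contra hcon
  push Not at hcon
  obtain ⟨h1, h2, h3⟩ := hcon
  have h4 : ({1, a, b} : Set (F ≃+* F)).ncard ≤ 2 := by
    have h5 := IsCyclic.card_pow_eq_one_le (α := F ≃+* F) (n := 2) (by norm_num)
    refine le_trans ?_ h5
    rw [Set.ncard_eq_toFinset_card']
    apply Finset.card_le_card
    intro x hx
    simp only [Set.mem_toFinset, Set.mem_insert_iff, Set.mem_singleton_iff] at hx
    simp only [Finset.mem_filter, Finset.mem_univ, true_and]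
    rcases hx with rfl | rfl | rfl
    · exact one_pow 2
    · rw [pow_two, ha]
    · rw [pow_two, hb]
  have h6 : a ≠ b := fun h7 => h3 (by rw [h7, inv_mul_cancel])
  have h8 : ({1, a, b} : Set (F ≃+* F)).ncard = 3 := by
    rw [Set.ncard_eq_three]
    exact ⟨1, a, b, Ne.symm h1, Ne.symm h2, h6, rfl⟩
  omega

end Cfsg.Agent.OddHalf.D4.MinusB
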