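import Mathlib

/-!
# ODD, D4, (1B): flags and Siegel elements of orthogonal spaces of minus type in characteristic two

helper328. `Fl h q f n` : an alternating form `h`, a quadratic form `q` with polar form `h`, a basis
`f 0, ..., f (2n + 1)` with antidiagonal Gram matrix, `f i` singular for `i < n`. `Fs k` : the span of
`f 0, ..., f (k - 1)`, defined by orthogonality.
-/

set_option autoImplicit false

namespace Cfsg.Agent.OddHalf.D4.MinusB

variable {F V : Type*} [Field F] [AddCommGroup V] [Module F V]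

/-- A flag basis. -/
structure Fl (h : V → V → F) (q : V → F) (f : ℕ → V) (n : ℕ) : Prop where
  two : (2 : F) = 0
  add_left : ∀ u v w, h (u + v) w = h u w + h v w
  smul_left : ∀ (a : F) u w, h (a • u) w = a * h u w
  comm : ∀ u v, h u v = h v u
  self : ∀ v, h v v = 0
  qadd : ∀ v w, q (v + w) = q v + q w + h v w
  qsmul : ∀ (a : F) v, q (a • v) = a * a * q v
  pair : ∀ i, i < 2 * n + 2 → h (f i) (f (2 * n + 1 - i)) ≠ 0
  orth : ∀ i j, i < 2 * n + 2 → j < 2 * n + 2 → i + j ≠ 2 * n + 1 → h (f i) (f j) = 0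
  sing : ∀ i, i < n → q (f i) = 0
  nd : ∀ v, (∀ i, i < 2 * n + 2 → h v (f i) = 0) → v = 0

/-- an isometry -/
structure Iso (h : V → V → F) (q : V → F) (g : V ≃ₗ[F] V) : Prop where
  h : ∀ u v, h (g u) (g v) = h u v
  q : ∀ v, q (g v) = q v

namespace Fl

variable {h : V → V → F} {q : V → F} {f : ℕ → V} {n : ℕ} (H : Fl h q f n)

include H

theorem add_right (u v w : V) : h u (v + w) = h u v + h u w := by
  rw [H.comm, H.add_left, H.comm v, H.comm w]

theorem smul_right (a : F) (u w : V) : h u (a • w) = a * h u w := by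
  rw [H.comm, H.smul_left, H.comm w]

theorem zero_left (w : V) : h 0 w = 0 := by
  have := H.smul_left 0 0 w
  rwa [zero_smul, zero_mul] at this

theorem add_self (t : F) : t + t = 0 := by rw [← two_mul, H.two, zero_mul]

theorem addV (v : V) : v + v = 0 := by rw [← two_smul F v, H.two, zero_smul]

theorem negV (v : V) : -v = v := neg_eq_of_add_eq_zero_left (H.addV v)

theorem subV (v w : V) : v - w = v + w := by rw [sub_eq_add_neg, H.negV]

theorem neg (t : F) : -t = t := neg_eq_of_add_eq_zero_left (H.add_self t)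

/-- the span of `f 0, ..., f (k - 1)` -/
def Fs (k : ℕ) : Submodule F V where
  carrier := {y | ∀ j, j + k < 2 * n + 2 → h y (f j) = 0}
  add_mem' := by
    intro u v hu hv j hj
    rw [H.add_left, hu j hj, hv j hj, add_zero]
  zero_mem' := fun j _ => H.zero_left _
  smul_mem' := by
    intro a v hv j hj
    rw [H.smul_left, hv j hj, mul_zero]

theorem mem_Fs {k : ℕ} {y : V} : y ∈ H.Fs k ↔ ∀ j, j + k < 2 * n + 2 → h y (f j) = 0 := Iff.rfl

theorem Fs_mono {k k' : ℕ} (hk : k ≤ k') : H.Fs k ≤ H.Fs k' := fun _ hy j hj => hy j (by omega)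

theorem Fs_top {k : ℕ} (hk : 2 * n + 2 ≤ k) (y : V) : y ∈ H.Fs k := fun j hj => by omega

theorem Fs_zero {y : V} (hy : y ∈ H.Fs 0) : y = 0 := H.nd y fun i hi => hy i (by omega)

theorem f_mem {j k : ℕ} (hjk : j < k) (hj : j < 2 * n + 2) : f j ∈ H.Fs k := fun i hi =>
  H.orth j i hj (by omega) (by omega)

/-- decomposition -/
theorem dec {k : ℕ} (hk : k < 2 * n + 2) {y : V} (hy : y ∈ H.Fs (k + 1)) : ∃ s : F, ∃ w ∈ H.Fs k, y = s • f k + w := by
  have h0 := H.pair k hk
  refine ⟨h y (f (2 * n + 1 - k)) / h (f k) (f (2 * n + 1 - k)), y - (h y (f (2 * n + 1 - k)) /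
    h (f k) (f (2 * n + 1 - k))) • f k, ?_, by abel⟩
  intro j hj
  rw [H.subV, H.add_left, H.smul_left]
  by_cases hj1 : j = 2 * n + 1 - k
  · subst hj1
    rw [div_mul_cancel₀ _ h0, H.add_self]
  · rw [hy j (by omega), H.orth k j hk (by omega) (by omega), mul_zero, add_zero]

/-- orthogonality -/
theorem perp {a b : ℕ} (hab : a + b ≤ 2 * n + 2) {y w : V} (hy : y ∈ H.Fs a) (hw : w ∈ H.Fs b) : h y w = 0 := by
  induction b generalizing w with
  | zero => rw [H.Fs_zero hw, H.comm, H.zero_left]
  | succ b ih =>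
    obtain ⟨s, w', hw', rfl⟩ := H.dec (by omega) hw
    rw [H.add_right, H.smul_right, hy b (by omega), ih (by omega) hw', mul_zero, add_zero]

theorem perp_f {a i : ℕ} (hai : a + i < 2 * n + 2) {y : V} (hy : y ∈ H.Fs a) : h y (f i) = 0 := hy i (by omega)

theorem q_zero {k : ℕ} (hk : k ≤ n) {y : V} (hy : y ∈ H.Fs k) : q y = 0 := by
  induction k generalizing y with
  | zero =>
    rw [H.Fs_zero hy]
    have := H.qsmul 0 0
    rwa [zero_smul, zero_mul, zero_mul] at this
  | succ k ih =>
    obtain ⟨s, w, hw, rfl⟩ := H.dec (by omega) hy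
    rw [H.qadd, H.qsmul, H.sing k (by omega), ih (by omega) hw, H.smul_left, H.comm, hw k (by omega)]
    ring

/-- unipotent on the flag -/
def Uni (g : V ≃ₗ[F] V) : Prop := ∀ k, k < 2 * n + 2 → ∀ y ∈ H.Fs (k + 1), g y + y ∈ H.Fs k

variable {H}

theorem Uni.mem {g : V ≃ₗ[F] V} (hg : H.Uni g) {k : ℕ} {y : V} (hy : y ∈ H.Fs k) : g y ∈ H.Fs k := by
  rcases Nat.eq_zero_or_pos k with rfl | hk
  · rw [H.Fs_zero hy, map_zero]; exact zero_mem _
  · by_cases hk2 : 2 * n + 2 ≤ k
    · exact H.Fs_top hk2 _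
    · obtain ⟨k, rfl⟩ : ∃ k', k = k' + 1 := ⟨k - 1, by omega⟩
      have h1 := H.Fs_mono (Nat.le_succ k) (hg k (by omega) y hy)
      have h2 := add_mem h1 hy
      rwa [add_assoc, H.addV, add_zero] at h2

variable (H)

end Fl

/-- the Siegel element `E(f i, s f k)` -/
def Sieg (h : V → V → F) (q : V → F) (f : ℕ → V) (i k : ℕ) (s : F) (g : V ≃ₗ[F] V) : Prop :=
  ∀ y, g y = y + (s * h y (f i)) • f k + (s * h y (f k)) • f i + (s * s * q (f k) * h y (f i)) • f i

namespace Fl

variable {h : V → V → F} {q : V → F} {f : ℕ → V} {n : ℕ} (H : Fl h q f n) {i k : ℕ} {s s' : F}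
  {g g' : V ≃ₗ[F] V}

include H

theorem sieg_h (hi : i < 2 * n + 2) (hk : k < 2 * n + 2) (hikn : i + k ≠ 2 * n + 1)
    (hg : Sieg h q f i k s g) (y : V) : h (g y) (f i) = h y (f i) ∧ h (g y) (f k) = h y (f k) := by
  have e1 := H.orth k i hk hi (by omega)
  have e2 := H.orth i k hi hk hikn
  rw [hg y]
  simp only [H.add_left, H.smul_left, e1, e2, H.self, mul_zero, add_zero, and_self]

theorem sieg_mul (hi : i < 2 * n + 2) (hk : k < 2 * n + 2) (hikn : i + k ≠ 2 * n + 1)
    (hg : Sieg h q f i k s g) (hg' : Sieg h q f i k s' g') : Sieg h q f i k (s + s') (g * g') := by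
  intro y
  obtain ⟨h1, h2⟩ := H.sieg_h hi hk hikn hg' y
  show g (g' y) = _
  rw [hg (g' y), h1, h2, hg' y]
  have e : (s + s') * (s + s') = s * s + s' * s' := by
    have : (s + s') * (s + s') = s * s + s' * s' + 2 * s * s' := by ring
    rw [this, H.two]; ring
  rw [e]
  module

theorem sieg_one : Sieg h q f i k 0 (1 : V ≃ₗ[F] V) := by
  intro y
  show y = _
  simp

theorem sieg_unique (hg : Sieg h q f i k s g) (hg' : Sieg h q f i k s g') : g = g' := by
  ext y
  rw [hg, hg']

/-- on `Fs (2n + 2 - i)` -/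
theorem sieg_mem (hi : i < 2 * n + 2) (hk : k < 2 * n + 2) (hik : i < k) (hg : Sieg h q f i k s g) (y : V) :
    g y + y ∈ H.Fs (k + 1) := by
  have e : g y + y = (s * h y (f i)) • f k + (s * h y (f k)) • f i + (s * s * q (f k) * h y (f i)) • f i := by
    rw [hg y]
    have := H.addV y
    calc y + (s * h y (f i)) • f k + (s * h y (f k)) • f i + (s * s * q (f k) * h y (f i)) • f i + y
        = (y + y) + ((s * h y (f i)) • f k + (s * h y (f k)) • f i + (s * s * q (f k) * h y (f i)) • f i) := by abel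
      _ = _ := by rw [this, zero_add]
  rw [e]
  have h1 : f k ∈ H.Fs (k + 1) := H.f_mem (by omega) hk
  have h2 : f i ∈ H.Fs (k + 1) := H.f_mem (by omega) hi
  exact add_mem (add_mem (Submodule.smul_mem _ _ h1) (Submodule.smul_mem _ _ h2)) (Submodule.smul_mem _ _ h2)

theorem sieg_mem' (hi : i < 2 * n + 2) (hg : Sieg h q f i k s g) {y : V} (hy : h y (f i) = 0) :
    g y + y ∈ H.Fs (i + 1) := by
  have e : g y + y = (s * h y (f k)) • f i := by
    rw [hg y, hy, mul_zero, mul_zero, zero_smul, zero_smul, add_zero, add_zero]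
    calc y + (s * h y (f k)) • f i + y = (y + y) + (s * h y (f k)) • f i := by abel
      _ = _ := by rw [H.addV, zero_add]
  rw [e]
  exact Submodule.smul_mem _ _ (H.f_mem (by omega) hi)

/-- **STAR**: an isometry, unipotent on the flag, commuting with `E(f i, s f k)`, `s ≠ 0`, commutes with
`E(f i, s' f k)`. -/
theorem star (hi : i < n) (hik : i < k) (hk : k < 2 * n + 1 - i) (hs : s ≠ 0)
    (hg : Sieg h q f i k s g) (hg' : Sieg h q f i k s' g') {y : V ≃ₗ[F] V} (hy : Iso h q y) (hu : H.Uni y)
    (hc : ∀ v, y (g v) = g (y v)) : ∀ v, y (g' v) = g' (y v) := by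
  by_cases hq : q (f k) = 0
  · -- linear case
    intro v
    have h1 := hc v
    rw [hg, hg, hq] at h1
    rw [hg', hg', hq]
    simp only [map_add, map_smul, mul_zero, zero_mul, zero_smul, add_zero] at h1 ⊢
    have h2 : s • (h v (f i) • y (f k) + h v (f k) • y (f i)) =
        s • (h (y v) (f i) • f k + h (y v) (f k) • f i) := by
      rw [smul_add, smul_add, smul_smul, smul_smul, smul_smul, smul_smul]
      rw [add_assoc, add_assoc] at h1
      exact add_left_cancel h1
    have h3 := smul_right_injective V hs h2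
    have h4 := congrArg (fun w => s' • w) h3
    simp only [smul_add, smul_smul] at h4
    rw [add_assoc, add_assoc, h4]
  · -- `y (f i) = f i`
    have hfi : y (f i) = f i := by
      have h0 := H.pair k (by omega)
      have e1 : h (f (2 * n + 1 - k)) (f i) = 0 := H.orth _ _ (by omega) (by omega) (by omega)
      have h1 := hc (f (2 * n + 1 - k))
      rw [hg, hg, e1, mul_zero, mul_zero, zero_smul, zero_smul, add_zero, add_zero, map_add, map_smul] at h1
      rw [add_assoc, add_assoc] at h1
      have h2 := add_left_cancel h1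
      rw [H.comm (f k)] at h0
      obtain ⟨c, hcdef⟩ : ∃ c, c = s * h (f (2 * n + 1 - k)) (f k) := ⟨_, rfl⟩
      have hc0 : c ≠ 0 := by rw [hcdef]; exact mul_ne_zero hs h0
      rw [← hcdef] at h2
      have h3 : y (f i) = (c⁻¹ * (s * h (y (f (2 * n + 1 - k))) (f i))) • f k +
          (c⁻¹ * (s * h (y (f (2 * n + 1 - k))) (f k) + s * s * q (f k) * h (y (f (2 * n + 1 - k))) (f i))) • f i := by
        have h4 := congrArg (fun w => c⁻¹ • w) h2
        simp only [smul_add, smul_smul] at h4
        rw [inv_mul_cancel₀ hc0, one_smul] at h4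
        rw [h4, mul_add, add_smul]
      obtain ⟨α, hα⟩ : ∃ α, α = c⁻¹ * (s * h (y (f (2 * n + 1 - k))) (f i)) := ⟨_, rfl⟩
      obtain ⟨β, hβ⟩ : ∃ β, β = c⁻¹ * (s * h (y (f (2 * n + 1 - k))) (f k) +
        s * s * q (f k) * h (y (f (2 * n + 1 - k))) (f i)) := ⟨_, rfl⟩
      rw [← hα, ← hβ] at h3
      have h5 : q (y (f i)) = 0 := by rw [hy.q, H.sing i hi]
      rw [h3, H.qadd, H.qsmul, H.qsmul, H.sing i hi, H.smul_left, H.smul_right, H.orth k i (by omega) (by omega)
        (by omega), mul_zero, mul_zero, mul_zero, add_zero, add_zero] at h5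
      have h6 : α = 0 := by
        rcases mul_eq_zero.1 h5 with h7 | h7
        · exact mul_self_eq_zero.1 h7
        · exact absurd h7 hq
      rw [h6, zero_smul, zero_add] at h3
      -- `β = 1`
      have h7 := hu i (by omega) (f i) (H.f_mem (by omega) (by omega))
      rw [h3] at h7
      have h8 := h7 (2 * n + 1 - i) (by omega)
      rw [H.add_left, H.smul_left] at h8
      have h9 := H.pair i (by omega)
      have h10 : (β + 1) * h (f i) (f (2 * n + 1 - i)) = 0 := by rw [add_mul, one_mul]; exact h8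
      have h11 := (mul_eq_zero.1 h10).resolve_right h9
      have h12 : β = 1 := by
        have := eq_neg_of_add_eq_zero_left h11
        rwa [H.neg] at this
      rw [h3, h12, one_smul]
    have e1 : ∀ v, h (y v) (f i) = h v (f i) := by
      intro v
      conv_lhs => rw [← hfi]
      rw [hy.h]
    -- `y (f k) = f k + c f i`
    intro v
    have h1 := hc v
    rw [hg, hg] at h1
    rw [hg', hg']
    simp only [map_add, map_smul, hfi, e1] at h1 ⊢
    have h2 : s • (h v (f i) • y (f k) + h v (f k) • f i) = s • (h v (f i) • f k + h (y v) (f k) • f i) := by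
      have h3 := add_right_cancel h1
      rw [smul_add, smul_add, smul_smul, smul_smul, smul_smul, smul_smul]
      rw [add_assoc, add_assoc] at h3
      exact add_left_cancel h3
    have h3 := smul_right_injective V hs h2
    have h4 := congrArg (fun w => s' • w) h3
    simp only [smul_add, smul_smul] at h4
    have h5 : y v + (s' * h v (f i)) • y (f k) + (s' * h v (f k)) • f i =
        y v + (s' * h v (f i)) • f k + (s' * h (y v) (f k)) • f i := by
      rw [add_assoc, add_assoc, h4]
    rw [h5]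

end Fl

end Cfsg.Agent.OddHalf.D4.MinusB
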