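import Mathlib
import Cfsg.Agent.OddHalf.D4.MinusB.Chain
import Cfsg.Agent.OddHalf.D4.MinusB.Flag

/-!
# ODD, D4, (1B): the chain of lines of a unipotent isometry group

helper328. `Dat.chain` : a group `T` of isometries, unipotent on the flag, containing the Siegel elements
`E(f i, s f k)`, is built from its lines `{E(f i, s f k) : s ∈ F}`.
-/

set_option autoImplicit false
set_option linter.unusedSectionVars false

namespace Cfsg.Agent.OddHalf.D4.MinusB

variable {F V : Type*} [Field F] [AddCommGroup V] [Module F V] {h : V → V → F} {q : V → F} {f : ℕ → V} {n : ℕ}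
  {H : Fl h q f n} {Γ : Type*} [Group Γ]

/-- The data. -/
structure Dat (H : Fl h q f n) (ψ : Γ →* (V ≃ₗ[F] V)) (T : Subgroup Γ) : Prop where
  inj : Function.Injective ψ
  iso : ∀ u ∈ T, Iso h q (ψ u)
  uni : ∀ u ∈ T, H.Uni (ψ u)
  top : ∀ u ∈ T, ∀ y ∈ H.Fs (n + 2), ψ u y + y ∈ H.Fs n
  line : ∀ i k, i < n → i < k → k < 2 * n + 1 - i → ∀ s : F, ∃ x ∈ T, Sieg h q f i k s (ψ x)

variable {ψ : Γ →* (V ≃ₗ[F] V)} {T : Subgroup Γ} (D : Dat H ψ T)

include D

theorem mul_ap (u v : Γ) (y : V) : ψ (u * v) y = ψ u (ψ v y) := by rw [map_mul]; rfl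

theorem inv_ap (u : Γ) (y : V) : ψ u (ψ u⁻¹ y) = y := by
  rw [← mul_ap D, mul_inv_cancel, map_one]; rfl

theorem inv_ap' (u : Γ) (y : V) : ψ u⁻¹ (ψ u y) = y := by
  rw [← mul_ap D, inv_mul_cancel, map_one]; rfl

/-- `{u ∈ T : (u - 1) F_a ≤ F_b}` -/
def DD (a b : ℕ) : Subgroup Γ where
  carrier := {u | u ∈ T ∧ ∀ y ∈ H.Fs a, ψ u y + y ∈ H.Fs b}
  mul_mem' := by
    rintro u v ⟨hu, hu'⟩ ⟨hv, hv'⟩
    refine ⟨mul_mem hu hv, fun y hy => ?_⟩
    rw [mul_ap D]
    have h1 := hu' _ ((D.uni v hv).mem hy)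
    have h2 := add_mem h1 (hv' y hy)
    have e : ψ u (ψ v y) + ψ v y + (ψ v y + y) = ψ u (ψ v y) + y := by
      calc ψ u (ψ v y) + ψ v y + (ψ v y + y) = ψ u (ψ v y) + (ψ v y + ψ v y) + y := by abel
        _ = _ := by rw [H.addV, add_zero]
    rwa [e] at h2
  one_mem' := by
    refine ⟨one_mem _, fun y _ => ?_⟩
    rw [map_one]
    show y + y ∈ _
    rw [H.addV]; exact zero_mem _
  inv_mem' := by
    rintro u ⟨hu, hu'⟩
    refine ⟨inv_mem hu, fun y hy => ?_⟩
    have h1 := hu' _ ((D.uni _ (inv_mem hu)).mem hy)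
    rwa [inv_ap D, add_comm] at h1

theorem mem_DD {a b : ℕ} {u : Γ} : u ∈ DD D a b ↔ u ∈ T ∧ ∀ y ∈ H.Fs a, ψ u y + y ∈ H.Fs b := Iff.rfl

/-- the line -/
def LL (i k : ℕ) (hi : i < n) (hik : i < k) (hk : k < 2 * n + 1 - i) : Subgroup Γ where
  carrier := {u | u ∈ T ∧ ∃ s, Sieg h q f i k s (ψ u)}
  mul_mem' := by
    rintro u v ⟨hu, s, hs⟩ ⟨hv, s', hs'⟩
    refine ⟨mul_mem hu hv, s + s', ?_⟩
    rw [map_mul]
    exact H.sieg_mul (by omega) (by omega) (by omega) hs hs'
  one_mem' := ⟨one_mem _, 0, by rw [map_one]; exact H.sieg_one⟩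
  inv_mem' := by
    rintro u ⟨hu, s, hs⟩
    refine ⟨inv_mem hu, s, ?_⟩
    have h1 := H.sieg_mul (by omega) (by omega) (by omega) hs hs
    rw [H.add_self, ← map_mul] at h1
    have h2 : ψ (u * u) = 1 := H.sieg_unique h1 H.sieg_one
    have h3 : u * u = 1 := D.inj (by rw [h2, map_one])
    rw [inv_eq_of_mul_eq_one_left h3]
    exact hs

theorem mem_LL {i k : ℕ} {hi : i < n} {hik : i < k} {hk : k < 2 * n + 1 - i} {u : Γ} :
    u ∈ LL D i k hi hik hk ↔ u ∈ T ∧ ∃ s, Sieg h q f i k s (ψ u) := Iff.rfl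

theorem sieg_sq {i k : ℕ} (hi : i < n) (hik : i < k) (hk : k < 2 * n + 1 - i) {s : F} {u : Γ}
    (hs : Sieg h q f i k s (ψ u)) : u * u = 1 := by
  have h1 := H.sieg_mul (by omega) (by omega) (by omega) hs hs
  rw [H.add_self, ← map_mul] at h1
  have h2 : ψ (u * u) = 1 := H.sieg_unique h1 H.sieg_one
  exact D.inj (by rw [h2, map_one])

/-- the groups of the chain -/
def DI (i k : ℕ) : Subgroup Γ := DD D (2 * n + 2 - i) k ⊓ DD D (2 * n + 1 - i) (i + 1)

/-- (1) -/
theorem DI_start {i : ℕ} (hi : i < n) : DI D i (i + 1) = DD D (2 * n + 2 - i) i := by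
  apply le_antisymm
  · rintro u ⟨⟨hu, h1⟩, -, h2⟩
    refine ⟨hu, ?_⟩
    have hI := D.iso u hu
    -- on `f := f (2 n + 1 - i)`
    have hfm : f (2 * n + 1 - i) ∈ H.Fs (2 * n + 2 - i) := H.f_mem (by omega) (by omega)
    have hp := H.pair i (by omega)
    obtain ⟨c, w, hw, e⟩ := H.dec (by omega) (h1 _ hfm)
    have hc : c = 0 := by
      have h3 := hI.q (f (2 * n + 1 - i))
      have e1 : ψ u (f (2 * n + 1 - i)) = f (2 * n + 1 - i) + (c • f i + w) := by
        rw [← e]
        calc ψ u (f (2 * n + 1 - i)) = ψ u (f (2 * n + 1 - i)) + 0 := by rw [add_zero]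
          _ = ψ u (f (2 * n + 1 - i)) + (f (2 * n + 1 - i) + f (2 * n + 1 - i)) := by rw [H.addV]
          _ = _ := by abel
      have hm : c • f i + w ∈ H.Fs (i + 1) := add_mem (Submodule.smul_mem _ _ (H.f_mem (by omega) (by omega)))
        (H.Fs_mono (Nat.le_succ i) hw)
      have h4 : h (f (2 * n + 1 - i)) w = 0 := H.perp (a := 2 * n + 2 - i) (b := i) (by omega) hfm hw
      rw [e1, H.qadd, H.q_zero (by omega) hm, H.add_right, H.smul_right, h4, add_zero, add_zero] at h3
      have h5 : c * h (f (2 * n + 1 - i)) (f i) = 0 := add_eq_left.1 h3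
      rw [H.comm] at h5
      exact (mul_eq_zero.1 h5).resolve_right hp
    have hw' : ψ u (f (2 * n + 1 - i)) + f (2 * n + 1 - i) ∈ H.Fs i := by
      rw [e, hc, zero_smul, zero_add]; exact hw
    -- on `F (2 n + 1 - i)`
    have key : ∀ y ∈ H.Fs (2 * n + 1 - i), ψ u y + y ∈ H.Fs i := by
      intro y hy
      obtain ⟨d, w2, hw2, e2⟩ := H.dec (by omega) (h2 y hy)
      have e3 : ψ u y = y + (d • f i + w2) := by
        rw [← e2]
        calc ψ u y = ψ u y + 0 := by rw [add_zero]
          _ = ψ u y + (y + y) := by rw [H.addV]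
          _ = _ := by abel
      have e4 : ψ u (f (2 * n + 1 - i)) = f (2 * n + 1 - i) + (ψ u (f (2 * n + 1 - i)) + f (2 * n + 1 - i)) := by
        calc ψ u (f (2 * n + 1 - i)) = ψ u (f (2 * n + 1 - i)) + 0 := by rw [add_zero]
          _ = ψ u (f (2 * n + 1 - i)) + (f (2 * n + 1 - i) + f (2 * n + 1 - i)) := by rw [H.addV]
          _ = _ := by abel
      obtain ⟨w', hw'def⟩ : ∃ w', w' = ψ u (f (2 * n + 1 - i)) + f (2 * n + 1 - i) := ⟨_, rfl⟩
      rw [← hw'def] at e4 hw'
      have h3 := hI.h y (f (2 * n + 1 - i))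
      rw [e3, e4] at h3
      have p1 : h y w' = 0 := H.perp (a := 2 * n + 1 - i) (b := i) (by omega) hy hw'
      have p2 : h (f i) w' = 0 := H.perp (a := i + 1) (b := i) (by omega) (H.f_mem (by omega) (by omega)) hw'
      have p3 : h w2 (f (2 * n + 1 - i)) = 0 := by
        rw [H.comm]
        exact H.perp (a := 2 * n + 2 - i) (b := i) (by omega) hfm hw2
      have p4 : h w2 w' = 0 := H.perp (a := i) (b := i) (by omega) hw2 hw'
      rw [H.add_left, H.add_left, H.smul_left, H.add_right, H.add_right, H.add_right, p1, p2, p3, p4] at h3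
      simp only [add_zero] at h3
      have h5 : d * h (f i) (f (2 * n + 1 - i)) = 0 := add_eq_left.1 h3
      have h6 : d = 0 := (mul_eq_zero.1 h5).resolve_right hp
      rw [e2, h6, zero_smul, zero_add]
      exact hw2
    intro y hy
    obtain ⟨a, y', hy', rfl⟩ := H.dec (k := 2 * n + 1 - i) (by omega) (y := y)
      (by rwa [show 2 * n + 1 - i + 1 = 2 * n + 2 - i by omega])
    have h7 := key y' hy'
    rw [map_add, map_smul]
    have e5 : a • ψ u (f (2 * n + 1 - i)) + ψ u y' + (a • f (2 * n + 1 - i) + y') =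
        a • (ψ u (f (2 * n + 1 - i)) + f (2 * n + 1 - i)) + (ψ u y' + y') := by
      rw [smul_add]; abel
    rw [e5]
    exact add_mem (Submodule.smul_mem _ _ hw') h7
  · rintro u ⟨hu, h1⟩
    refine ⟨⟨hu, fun y hy => H.Fs_mono (Nat.le_succ i) (h1 y hy)⟩, hu, fun y hy => ?_⟩
    exact H.Fs_mono (Nat.le_succ i) (h1 y (H.Fs_mono (by omega) hy))

/-- (2) -/
theorem DI_end {i : ℕ} (hi : i < n) : DI D i (2 * n + 1 - i) = DD D (2 * n + 2 - (i + 1)) (i + 1) := by
  have e : 2 * n + 2 - (i + 1) = 2 * n + 1 - i := by omega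
  rw [e]
  apply le_antisymm inf_le_right
  rintro u ⟨hu, h1⟩
  refine ⟨⟨hu, fun y hy => ?_⟩, hu, h1⟩
  exact D.uni u hu (2 * n + 1 - i) (by omega) y (by rwa [show 2 * n + 1 - i + 1 = 2 * n + 2 - i by omega])

/-- (4) -/
theorem DD_bot : DD D (2 * n + 2 - 0) 0 = ⊥ := by
  rw [eq_bot_iff]
  rintro u ⟨_, h1⟩
  rw [Subgroup.mem_bot]
  apply D.inj
  rw [map_one]
  ext y
  have h2 := H.Fs_zero (h1 y (H.Fs_top (by omega) y))
  show ψ u y = y
  have := eq_neg_of_add_eq_zero_left h2
  rwa [H.negV] at this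

theorem DD_top : DD D (2 * n + 2 - n) n = T := by
  apply le_antisymm (fun u hu => hu.1)
  intro u hu
  exact ⟨hu, fun y hy => D.top u hu y (by rwa [show 2 * n + 2 - n = n + 2 by omega] at hy)⟩

theorem LL_le {i k : ℕ} (hi : i < n) (hik : i < k) (hk : k < 2 * n + 1 - i) :
    LL D i k hi hik hk ≤ DI D i (k + 1) := by
  rintro u ⟨hu, s, hs⟩
  refine ⟨⟨hu, fun y _ => H.sieg_mem (by omega) (by omega) hik hs y⟩, hu, fun y hy => ?_⟩
  exact H.sieg_mem' (by omega) hs (H.perp_f (a := 2 * n + 1 - i) (by omega) hy)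

theorem DI_mono {i k : ℕ} : DI D i k ≤ DI D i (k + 1) := by
  rintro u ⟨⟨hu, h1⟩, h2⟩
  exact ⟨⟨hu, fun y hy => H.Fs_mono (Nat.le_succ k) (h1 y hy)⟩, h2⟩

/-- the coefficient of a line element -/
theorem sieg_coef {i k : ℕ} (hi : i < n) (hik : i < k) (hk : k < 2 * n + 1 - i) {s : F} {u : Γ}
    (hs : Sieg h q f i k s (ψ u)) (hu : u ∈ DI D i k) : s = 0 := by
  have h1 := hu.1.2 (f (2 * n + 1 - i)) (H.f_mem (by omega) (by omega))
  have h2 := h1 (2 * n + 1 - k) (by omega)
  have e0 := H.pair i (by omega)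
  have e1 := H.pair k (by omega)
  have e2 : h (f (2 * n + 1 - i)) (f k) = 0 := H.orth _ _ (by omega) (by omega) (by omega)
  have e3 : h (f i) (f (2 * n + 1 - k)) = 0 := H.orth _ _ (by omega) (by omega) (by omega)
  rw [hs, e2, mul_zero, zero_smul, add_zero] at h2
  simp only [H.add_left, H.smul_left, e3, mul_zero, add_zero] at h2
  have h3 : s * h (f (2 * n + 1 - i)) (f i) * h (f k) (f (2 * n + 1 - k)) = 0 := by
    have h4 : h (f (2 * n + 1 - i)) (f (2 * n + 1 - k)) +
        s * h (f (2 * n + 1 - i)) (f i) * h (f k) (f (2 * n + 1 - k)) +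
        h (f (2 * n + 1 - i)) (f (2 * n + 1 - k)) =
        s * h (f (2 * n + 1 - i)) (f i) * h (f k) (f (2 * n + 1 - k)) +
        (h (f (2 * n + 1 - i)) (f (2 * n + 1 - k)) + h (f (2 * n + 1 - i)) (f (2 * n + 1 - k))) := by ring
    rw [h4, H.add_self, add_zero] at h2
    exact h2
  rw [H.comm] at e0
  exact (mul_eq_zero.1 ((mul_eq_zero.1 h3).resolve_right e1)).resolve_right e0

/-- (3) -/
theorem DI_step {i k : ℕ} (hi : i < n) (hik : i < k) (hk : k < 2 * n + 1 - i) :
    DI D i (k + 1) = DI D i k ⊔ LL D i k hi hik hk := by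
  apply le_antisymm _ (sup_le (DI_mono D) (LL_le D hi hik hk))
  rintro u ⟨⟨hu, h1⟩, -, h2⟩
  have hfm : f (2 * n + 1 - i) ∈ H.Fs (2 * n + 2 - i) := H.f_mem (by omega) (by omega)
  have hp := H.pair i (by omega)
  rw [H.comm] at hp
  obtain ⟨c, w, hw, e⟩ := H.dec (by omega) (h1 _ hfm)
  obtain ⟨x, hxT, hx⟩ := D.line i k hi hik hk (c / h (f (2 * n + 1 - i)) (f i))
  have hxL : x ∈ LL D i k hi hik hk := ⟨hxT, _, hx⟩
  have hxx := sieg_sq D hi hik hk hx
  have hux : u * x ∈ DI D i k := by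
    have huU := D.uni u hu
    -- on `F (2 n + 1 - i)`
    have hfi : ψ u (f i) ∈ H.Fs (i + 1) := huU.mem (H.f_mem (by omega) (by omega))
    have key : ∀ y ∈ H.Fs (2 * n + 1 - i), ψ (u * x) y + y ∈ H.Fs (i + 1) := by
      intro y hy
      have h3 := H.sieg_mem' (g := ψ x) (by omega) hx (H.perp_f (a := 2 * n + 1 - i) (by omega) hy)
      have h4 := huU.mem h3
      have h5 := h2 y hy
      rw [mul_ap D]
      rw [map_add] at h4
      have h6 := add_mem h4 h5
      have e2 : ψ u (ψ x y) + ψ u y + (ψ u y + y) = ψ u (ψ x y) + y := by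
        calc ψ u (ψ x y) + ψ u y + (ψ u y + y) = ψ u (ψ x y) + (ψ u y + ψ u y) + y := by abel
          _ = _ := by rw [H.addV, add_zero]
      rwa [e2] at h6
    refine ⟨⟨mul_mem hu hxT, fun y hy => ?_⟩, mul_mem hu hxT, key⟩
    obtain ⟨a, y', hy', rfl⟩ := H.dec (k := 2 * n + 1 - i) (by omega) (y := y)
      (by rwa [show 2 * n + 1 - i + 1 = 2 * n + 2 - i by omega])
    have h7 := H.Fs_mono (show i + 1 ≤ k by omega) (key y' hy')
    have h8 : ψ (u * x) (f (2 * n + 1 - i)) + f (2 * n + 1 - i) ∈ H.Fs k := by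
      have e2 : h (f (2 * n + 1 - i)) (f k) = 0 := H.orth _ _ (by omega) (by omega) (by omega)
      rw [mul_ap D, hx, e2, mul_zero, zero_smul, add_zero, div_mul_cancel₀ _ hp, map_add, map_add, map_smul, map_smul]
      have h9 := H.Fs_mono (show i + 1 ≤ k by omega) hfi
      have h10 : ψ u (f k) + f k ∈ H.Fs k := huU k (by omega) (f k) (H.f_mem (by omega) (by omega))
      have e3 : ψ u (f (2 * n + 1 - i)) + c • ψ u (f k) +
          (c / h (f (2 * n + 1 - i)) (f i) * (c / h (f (2 * n + 1 - i)) (f i)) * q (f k) *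
            h (f (2 * n + 1 - i)) (f i)) • ψ u (f i) + f (2 * n + 1 - i) =
          w + c • (ψ u (f k) + f k) +
          (c / h (f (2 * n + 1 - i)) (f i) * (c / h (f (2 * n + 1 - i)) (f i)) * q (f k) *
            h (f (2 * n + 1 - i)) (f i)) • ψ u (f i) := by
        have e4 : ψ u (f (2 * n + 1 - i)) + f (2 * n + 1 - i) + c • f k = w := by
          rw [e]
          calc c • f k + w + c • f k = w + (c • f k + c • f k) := by abel
            _ = w := by rw [H.addV, add_zero]
        rw [← e4, smul_add]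
        have e5 := H.addV (c • f k)
        calc _ = ψ u (f (2 * n + 1 - i)) + f (2 * n + 1 - i) + c • ψ u (f k) +
              (c / h (f (2 * n + 1 - i)) (f i) * (c / h (f (2 * n + 1 - i)) (f i)) * q (f k) *
              h (f (2 * n + 1 - i)) (f i)) • ψ u (f i) + 0 := by rw [add_zero]; abel
          _ = _ := by rw [← e5]; abel
      rw [e3]
      exact add_mem (add_mem hw (Submodule.smul_mem _ _ h10)) (Submodule.smul_mem _ _ h9)
    rw [map_add, map_smul]
    have e5 : a • ψ (u * x) (f (2 * n + 1 - i)) + ψ (u * x) y' + (a • f (2 * n + 1 - i) + y') =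
        a • (ψ (u * x) (f (2 * n + 1 - i)) + f (2 * n + 1 - i)) + (ψ (u * x) y' + y') := by
      rw [smul_add]; abel
    rw [e5]
    exact add_mem (Submodule.smul_mem _ _ h8) h7
  have e9 : u = u * x * x := by rw [mul_assoc, hxx, mul_one]
  rw [e9]
  exact mul_mem (Subgroup.mem_sup_left hux) (Subgroup.mem_sup_right hxL)

/-! ### the lines -/

variable {A : Subgroup (MulAut Γ)} {φ : MulAut Γ → Prop}

/-- the lifts of the automorphisms -/
structure Lifts (H : Fl h q f n) (ψ : Γ →* (V ≃ₗ[F] V)) (T : Subgroup Γ) (A : Subgroup (MulAut Γ))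
    (φ : MulAut Γ → Prop) : Prop where
  norm : ∀ e ∈ A, φ e → ∀ t ∈ T, e t ∈ T
  lift : ∀ e ∈ A, φ e → ∃ g : V ≃ₗ[F] V, Iso h q g ∧ H.Uni g ∧ ∀ x y, ψ (e x) (g y) = g (ψ x y)

theorem step (hL : Lifts H ψ T A φ) (h4 : ∃ s : F, s ≠ 0 ∧ s ≠ 1) {i k : ℕ} (hi : i < n) (hik : i < k)
    (hk : k < 2 * n + 1 - i) : Step A φ (DI D i k) (LL D i k hi hik hk) where
  sq := by
    rintro x ⟨hx, s, hs⟩
    rw [sieg_sq D hi hik hk hs]; exact one_mem _
  pair := by
    obtain ⟨s, hs0, hs1⟩ := h4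
    obtain ⟨a, haT, ha⟩ := D.line i k hi hik hk 1
    obtain ⟨b, hbT, hb⟩ := D.line i k hi hik hk s
    refine ⟨a, ⟨haT, _, ha⟩, b, ⟨hbT, _, hb⟩, fun h1 => one_ne_zero (sieg_coef D hi hik hk ha h1),
      fun h1 => hs0 (sieg_coef D hi hik hk hb h1), fun h1 => ?_⟩
    have h2 := sieg_sq D hi hik hk ha
    rw [inv_eq_of_mul_eq_one_left h2] at h1
    have h3 := H.sieg_mul (by omega) (by omega) (by omega) ha hb
    rw [← map_mul] at h3
    have h5 := sieg_coef D hi hik hk h3 h1
    have h6 := eq_neg_of_add_eq_zero_left h5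
    rw [H.neg] at h6
    exact hs1 h6.symm
  star := by
    rintro y hyA hyφ hyy x ⟨hx, s, hs⟩ hxD hxy x' ⟨hx', s', hs'⟩
    obtain ⟨g, hgI, hgU, hg⟩ := hL.lift y hyA hyφ
    have hs0 : s ≠ 0 := by
      rintro rfl
      apply hxD
      have : x = 1 := D.inj (by rw [map_one]; exact H.sieg_unique hs H.sieg_one)
      rw [this]; exact one_mem _
    have h1 := H.star hi hik hk hs0 hs hs' hgI hgU (fun v => by rw [← hg, hxy])
    apply D.inj
    ext v
    obtain ⟨w, rfl⟩ := g.surjective v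
    rw [hg, h1]
  fix := by
    rintro x ⟨hx, s, hs⟩ e heA heφ
    obtain ⟨g, hgI, hgU, hg⟩ := hL.lift e heA heφ
    have hexT : e x ∈ T := hL.norm e heA heφ x hx
    have hxx := sieg_sq D hi hik hk hs
    have hxi : x⁻¹ = x := inv_eq_of_mul_eq_one_left hxx
    have huT : e x * x⁻¹ ∈ T := mul_mem hexT (inv_mem hx)
    have hxU := D.uni x hx
    have hfi : f i ∈ H.Fs (i + 1) := H.f_mem (by omega) (by omega)
    -- reduction
    have red : ∀ a b : ℕ, (∀ z ∈ H.Fs a, g (ψ x z) + ψ x (g z) ∈ H.Fs b) → ∀ y ∈ H.Fs a,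
        ψ (e x * x⁻¹) y + y ∈ H.Fs b := by
      intro a b hab y hy
      have h1 : ψ x y ∈ H.Fs a := hxU.mem hy
      obtain ⟨z, hz⟩ := g.surjective (ψ x y)
      have hzm : z ∈ H.Fs a := by
        -- `g⁻¹` preserves the flag
        have hfin : ∀ c : ℕ, ∀ v, g v ∈ H.Fs c → v ∈ H.Fs c := by
          intro c
          have hle : (H.Fs c).map (g : V →ₗ[F] V) ≤ H.Fs c := by
            rintro _ ⟨v, hv, rfl⟩
            exact hgU.mem hv
          intro v hv
          -- peel: `v ∈ Fs m` for all `m ≥ c`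
          have hm : ∀ m, v ∈ H.Fs (c + m) → v ∈ H.Fs c := by
            intro m
            induction m with
            | zero => exact fun h => h
            | succ m ih =>
              intro h
              by_cases hcm : c + m < 2 * n + 2
              · apply ih
                have h2 := hgU (c + m) hcm v h
                have h3 := add_mem h2 (H.Fs_mono (show c ≤ c + m by omega) hv)
                have e2 : g v + v + g v = v := by
                  calc g v + v + g v = v + (g v + g v) := by abel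
                    _ = v := by rw [H.addV, add_zero]
                rwa [e2] at h3
              · apply ih
                exact H.Fs_top (by omega) v
          exact hm (2 * n + 2) (H.Fs_top (by omega) v)
        exact hfin a z (by rw [hz]; exact h1)
      have h3 := hab z hzm
      rw [mul_ap D, hxi, ← hz, hg]
      have e2 : ψ x (g z) = y := by rw [hz, ← mul_ap D, hxx, map_one]; rfl
      rwa [e2] at h3
    -- the difference
    have hdiff : ∀ z, h (g z) (f i) = h z (f i) → g (ψ x z) + ψ x (g z) =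
        (s * h z (f i)) • (g (f k) + f k) + ((s * h z (f k) + s * s * q (f k) * h z (f i)) • g (f i) +
          (s * h (g z) (f k) + s * s * q (f k) * h z (f i)) • f i) := by
      intro z hz
      rw [hs, hs, hz]
      simp only [map_add, map_smul, smul_add, add_smul]
      have e2 := H.addV (g z)
      calc _ = (g z + g z) + ((s * h z (f i)) • g (f k) + (s * h z (f i)) • f k + ((s * h z (f k)) • g (f i) +
            (s * s * q (f k) * h z (f i)) • g (f i) + ((s * h (g z) (f k)) • f i +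
              (s * s * q (f k) * h z (f i)) • f i))) := by abel
        _ = _ := by rw [e2, zero_add]
    have hperp : ∀ z ∈ H.Fs (2 * n + 2 - i), h (g z) (f i) = h z (f i) := by
      intro z hz
      have h1 := hgU (2 * n + 1 - i) (by omega) z (by rwa [show 2 * n + 1 - i + 1 = 2 * n + 2 - i by omega])
      have h2 := H.perp_f (i := i) (by omega) h1
      rw [H.add_left] at h2
      have h3 := eq_neg_of_add_eq_zero_left h2
      rwa [H.neg] at h3
    have hgi : g (f i) ∈ H.Fs (i + 1) := hgU.mem hfi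
    refine ⟨⟨huT, red _ _ fun z hz => ?_⟩, huT, red _ _ fun z hz => ?_⟩
    · rw [hdiff z (hperp z hz)]
      refine add_mem (Submodule.smul_mem _ _ (hgU k (by omega) _ (H.f_mem (by omega) (by omega)))) (add_mem ?_ ?_)
      · exact Submodule.smul_mem _ _ (H.Fs_mono (by omega) hgi)
      · exact Submodule.smul_mem _ _ (H.Fs_mono (by omega) hfi)
    · rw [hdiff z (hperp z (H.Fs_mono (by omega) hz)), H.perp_f (a := 2 * n + 1 - i) (by omega) hz, mul_zero, mul_zero,
        zero_smul, zero_add, add_zero, add_zero]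
      exact add_mem (Submodule.smul_mem _ _ hgi) (Submodule.smul_mem _ _ hfi)

/-- **The chain.** -/
theorem Dat.chain (hL : Lifts H ψ T A φ) (h4 : ∃ s : F, s ≠ 0 ∧ s ≠ 1) : Chain A φ T := by
  have key : ∀ i, i ≤ n → Chain A φ (DD D (2 * n + 2 - i) i) := by
    intro i
    induction i with
    | zero =>
      intro _
      rw [DD_bot D]
      exact Chain.bot
    | succ i ih =>
      intro hi
      have hi' : i < n := by omega
      have h0 := ih (by omega)
      rw [← DI_start D hi'] at h0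
      rw [← DI_end D hi']
      have h1 : ∀ m, i + 1 + m ≤ 2 * n + 1 - i → Chain A φ (DI D i (i + 1 + m)) := by
        intro m
        induction m with
        | zero => exact fun _ => h0
        | succ m ihm =>
          intro hm
          rw [← add_assoc, DI_step D hi' (by omega) (by omega)]
          exact Chain.step (ihm (by omega)) (step D hL h4 hi' (by omega) (by omega))
      have h2 := h1 (2 * n + 1 - i - (i + 1)) (by omega)
      rwa [show i + 1 + (2 * n + 1 - i - (i + 1)) = 2 * n + 1 - i by omega] at h2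
  have h1 := key n le_rfl
  rwa [DD_top D] at h1

end Cfsg.Agent.OddHalf.D4.MinusB
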