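import Mathlib
import Cfsg.Agent.OddHalf.D4.MinusB.FlagChain
import Cfsg.Agent.OddHalf.D4.MinusB.FieldPart

/-!
# ODD, D4, (1B), `PΩ⁻`: the flag basis of a Witt frame with anisotropic plane

helper328. `fb v w` : `b (0, +), ..., b (n-1, +), v, w, b (n-1, -), ..., b (0, -)`; `fl` : it is a flag basis;
`dat` : the Sylow group; `lifts` : the lifts of the automorphisms.
-/

set_option autoImplicit false
set_option linter.unusedSectionVars false

namespace Cfsg.Agent.OddHalf.D4.MinusB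

/-! ### more on unipotent maps -/

section Uni

variable {F V : Type*} [Field F] [AddCommGroup V] [Module F V] {h : V → V → F} {q : V → F} {f : ℕ → V} {n : ℕ}
  {H : Fl h q f n} {g g' : V ≃ₗ[F] V}

theorem Uni.of_basis (hg : ∀ k, k < 2 * n + 2 → g (f k) + f k ∈ H.Fs k) : H.Uni g := by
  have key : ∀ k, k < 2 * n + 2 → ∀ y ∈ H.Fs (k + 1), g y + y ∈ H.Fs k := by
    intro k
    induction k with
    | zero =>
      intro hk y hy
      obtain ⟨s, w, hw, rfl⟩ := H.dec hk hy
      rw [H.Fs_zero hw, add_zero, map_smul, ← smul_add]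
      exact Submodule.smul_mem _ _ (hg 0 hk)
    | succ k ih =>
      intro hk y hy
      obtain ⟨s, w, hw, rfl⟩ := H.dec hk hy
      have h1 := H.Fs_mono (Nat.le_succ k) (ih (by omega) w hw)
      have h2 := Submodule.smul_mem (H.Fs (k + 1)) s (hg (k + 1) hk)
      have e : g (s • f (k + 1) + w) + (s • f (k + 1) + w) = s • (g (f (k + 1)) + f (k + 1)) + (g w + w) := by
        rw [map_add, map_smul, smul_add]; abel
      rw [e]
      exact add_mem h2 h1
  exact key

theorem Uni.of_mem (hg : H.Uni g) {c : ℕ} {v : V} (hv : g v ∈ H.Fs c) : v ∈ H.Fs c := by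
  have hm : ∀ m, v ∈ H.Fs (c + m) → v ∈ H.Fs c := by
    intro m
    induction m with
    | zero => exact fun h => h
    | succ m ih =>
      intro h
      by_cases hcm : c + m < 2 * n + 2
      · apply ih
        have h2 := hg (c + m) hcm v h
        have h3 := add_mem h2 (H.Fs_mono (show c ≤ c + m by omega) hv)
        have e2 : g v + v + g v = v := by
          calc g v + v + g v = v + (g v + g v) := by abel
            _ = v := by rw [H.addV, add_zero]
        rwa [e2] at h3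
      · apply ih
        exact H.Fs_top (by omega) v
  exact hm (2 * n + 2) (H.Fs_top (by omega) v)

theorem Uni.mul (hg : H.Uni g) (hg' : H.Uni g') : H.Uni (g * g') := by
  intro k hk y hy
  have h1 := hg k hk (g' y) (Fl.Uni.mem hg' hy)
  have h2 := add_mem h1 (hg' k hk y hy)
  have e : g (g' y) + g' y + (g' y + y) = g (g' y) + y := by
    calc g (g' y) + g' y + (g' y + y) = g (g' y) + (g' y + g' y) + y := by abel
      _ = _ := by rw [H.addV, add_zero]
  rwa [e] at h2

theorem Uni.inv (hg : H.Uni g) : H.Uni g⁻¹ := by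
  intro k hk y hy
  have e0 : g (g⁻¹ y) = y := g.apply_symm_apply y
  have h1 : g⁻¹ y ∈ H.Fs (k + 1) := Uni.of_mem hg (by rw [e0]; exact hy)
  have h2 := hg k hk _ h1
  rwa [e0, add_comm] at h2

theorem Uni.one : H.Uni (1 : V ≃ₗ[F] V) := by
  intro k _ y _
  show y + y ∈ _
  rw [H.addV]; exact zero_mem _

/-- trivial on `F (n + 2) / F n` -/
def Tp (H : Fl h q f n) (g : V ≃ₗ[F] V) : Prop := ∀ y ∈ H.Fs (n + 2), g y + y ∈ H.Fs n

theorem Tp.mul (hg' : H.Uni g') (ht : Tp H g) (ht' : Tp H g') : Tp H (g * g') := by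
  intro y hy
  have h1 := ht (g' y) (Fl.Uni.mem hg' hy)
  have h2 := add_mem h1 (ht' y hy)
  have e : g (g' y) + g' y + (g' y + y) = g (g' y) + y := by
    calc g (g' y) + g' y + (g' y + y) = g (g' y) + (g' y + g' y) + y := by abel
      _ = _ := by rw [H.addV, add_zero]
  rwa [e] at h2

theorem Tp.inv (hg : H.Uni g) (ht : Tp H g) : Tp H g⁻¹ := by
  intro y hy
  have e0 : g (g⁻¹ y) = y := g.apply_symm_apply y
  have h1 : g⁻¹ y ∈ H.Fs (n + 2) := Uni.of_mem hg (by rw [e0]; exact hy)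
  have h2 := ht _ h1
  rwa [e0, add_comm] at h2

theorem Tp.one : Tp H (1 : V ≃ₗ[F] V) := by
  intro y _
  show y + y ∈ _
  rw [H.addV]; exact zero_mem _

theorem Tp.of_basis (hg : H.Uni g) (h1 : g (f (n + 1)) + f (n + 1) ∈ H.Fs n) : Tp H g := by
  intro y hy
  obtain ⟨s, w, hw, rfl⟩ := H.dec (k := n + 1) (by omega) hy
  have h2 := hg n (by omega) w hw
  have e : g (s • f (n + 1) + w) + (s • f (n + 1) + w) = s • (g (f (n + 1)) + f (n + 1)) + (g w + w) := by
    rw [map_add, map_smul, smul_add]; abel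
  rw [e]
  exact add_mem (Submodule.smul_mem _ _ h1) h2

end Uni

open CoxeterSystem Cfsg.Agent.ChevalleyStructure.CoxeterGeom Cfsg.Agent.Tits.Roots Cfsg.Agent.Nodes.TypeC
  Cfsg.Agent.Tits.RootComb
open Cfsg.Agent.Nodes.Comb Cfsg.Agent.Nodes.Reps Cfsg.Agent.Nodes.WittRoot Cfsg.Agent.Nodes.BNOf
  Cfsg.Agent.Nodes.StabComb Cfsg.Agent.Nodes.Coroot Cfsg.Agent.Nodes.KindBC Cfsg.Agent.Nodes.TypeCForm
  Cfsg.Agent.Nodes.Bruhat Cfsg.Agent.Nodes.PosPair Cfsg.Agent.Nodes.OppDec
open Cfsg.Agent Cfsg.Agent.TitsThree Cfsg.Agent.TitsThree.Siegel Cfsg.Agent.TitsThree.WittFrame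
  Cfsg.Agent.TitsThree.WittWeyl Cfsg.Agent.TitsThree.FrameCN Cfsg.Agent.TitsThree.LineBorel
open Cfsg.Agent.KFacts.WittOrth Cfsg.Agent.OddHalf.DblR.MinusComb Cfsg.Agent.OddHalf.DblR.SheetMinus
open Cfsg.Agent.KFacts.RgdAut Cfsg.Agent.KFacts.RgdDiag Cfsg.Agent.KFacts.RgdRigid Cfsg.Agent.KFacts.RgdTI
  Cfsg.Agent.KFacts.RgdCent Cfsg.Agent.OddHalf.D4.Free

variable {F : Type*} [Field F] {V : Type*} [AddCommGroup V] [Module F V] {H : HForm F V} {n : ℕ}
  {Fr : Frame H (Fin n)} {K : Type*} [Group K] {M : Model Fr K} {ψ : K →* (V ≃ₗ[F] V)} {q : V → F}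

/-! ### the plane -/

section Plane

variable (O : KFacts.WittOrth.Orth Fr) (hP : DblR.MinusTor.IsPlane Fr)

include O hP

theorem plane_cut {v x : V} (hv : v ∈ Fr.V0) (hv0 : v ≠ 0) (hx : x ∈ Fr.V0) (h : H.h x v = 0) : ∃ c : F, x = c • v := by
  obtain ⟨q', v0, w0, P, -⟩ := hP
  obtain ⟨α, β, hv'⟩ := P.span ⟨v, hv⟩
  obtain ⟨γ, δ, hx'⟩ := P.span ⟨x, hx⟩
  have ev : v = α • v0.1 + β • w0.1 := congrArg Subtype.val hv'
  have ex : x = γ • v0.1 + δ • w0.1 := congrArg Subtype.val hx'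
  have p1 : H.h v0.1 w0.1 = 1 := P.pair
  have p2 : H.h w0.1 v0.1 = 1 := by rw [O.h_comm]; exact p1
  have s1 : H.h v0.1 v0.1 = 0 := by
    obtain ⟨p, hp⟩ := O.exists_adm v0.2
    rw [← hp]; exact O.h_self p
  have s2 : H.h w0.1 w0.1 = 0 := by
    obtain ⟨p, hp⟩ := O.exists_adm w0.2
    rw [← hp]; exact O.h_self p
  rw [ex, ev, H.add_left, H.smul_left, H.smul_left, H.add_right, H.add_right, H.smul_right, H.smul_right, H.smul_right,
    H.smul_right, O.σ, O.σ, p1, p2, s1, s2] at h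
  have h1 : γ * β + δ * α = 0 := by linear_combination h
  have h2 := O.eq_of_add h1
  by_cases hα : α = 0
  · have hβ : β ≠ 0 := by
      rintro rfl
      apply hv0
      rw [ev, hα, zero_smul, zero_smul, add_zero]
    have hγ : γ = 0 := by
      rw [hα, mul_zero] at h2
      exact (mul_eq_zero.1 h2).resolve_right hβ
    refine ⟨δ / β, ?_⟩
    rw [ex, ev, hα, hγ, zero_smul, zero_add, zero_add, smul_smul, div_mul_cancel₀ _ hβ]
  · refine ⟨γ / α, ?_⟩
    rw [ex, ev, smul_add, smul_smul, smul_smul, div_mul_cancel₀ _ hα]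
    congr 2
    field_simp
    rw [h2]

end Plane

/-! ### the basis -/

/-- the flag basis -/
noncomputable def fb (Fr : Frame H (Fin n)) (v w : V) (k : ℕ) : V :=
  if h : k < n then Fr.b (⟨k, h⟩, true) else if k = n then v else if k = n + 1 then w else
    if h : 2 * n + 1 - k < n then Fr.b (⟨2 * n + 1 - k, h⟩, false) else 0

theorem fb_ps (v w : V) (x : Fin n × Bool) : fb Fr v w (ps x) = Fr.b x := by
  rcases ps_cases x with ⟨h1, h2, h3⟩ | ⟨h1, h2, h3⟩
  · unfold fb
    rw [dif_pos (by omega)]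
    congr 1
    exact Prod.ext (Fin.ext h2) h1.symm
  · unfold fb
    rw [dif_neg (by omega), if_neg (by omega), if_neg (by omega), dif_pos (by omega)]
    congr 1
    exact Prod.ext (Fin.ext (by simp only; omega)) h1.symm

theorem fb_n (v w : V) : fb Fr v w n = v := by
  unfold fb
  rw [dif_neg (by omega), if_pos rfl]

theorem fb_n1 (v w : V) : fb Fr v w (n + 1) = w := by
  unfold fb
  rw [dif_neg (by omega), if_neg (by omega), if_pos rfl]

theorem k_cases {k : ℕ} (hk : k < 2 * n + 2) : (∃ x : Fin n × Bool, k = ps x) ∨ k = n ∨ k = n + 1 := by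
  by_cases h1 : k < n
  · exact Or.inl ⟨(⟨k, h1⟩, true), rfl⟩
  · by_cases h2 : k = n
    · exact Or.inr (Or.inl h2)
    · by_cases h3 : k = n + 1
      · exact Or.inr (Or.inr h3)
      · refine Or.inl ⟨(⟨2 * n + 1 - k, by omega⟩, false), ?_⟩
        rw [ps_false]
        simp only
        omega

theorem ps_ne (x : Fin n × Bool) : ps x ≠ n ∧ ps x ≠ n + 1 := by
  rcases ps_cases x with ⟨h1, h2, h3⟩ | ⟨h1, h2, h3⟩ <;> omega

/-- **the flag basis** -/
theorem fl (O : KFacts.WittOrth.Orth Fr) (Q : Qd Fr q) (hP : DblR.MinusTor.IsPlane Fr) {v w : V} (hv : v ∈ Fr.V0)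
    (hw : w ∈ Fr.V0) (hvw : H.h v w ≠ 0) : Fl H.h q (fb Fr v w) n where
  two := O.two
  add_left := H.add_left
  smul_left := H.smul_left
  comm := O.h_comm
  self := h_self' O Q
  qadd := Q.qadd
  qsmul := Q.qsmul
  pair := by
    intro i hi
    rcases k_cases hi with ⟨x, rfl⟩ | rfl | rfl
    · have h1 := ps_ng x
      rw [show 2 * n + 1 - ps x = ps (ng x) by omega, fb_ps, fb_ps, O.hbb]
      exact one_ne_zero
    · rw [show 2 * i + 1 - i = i + 1 by omega, fb_n, fb_n1]
      exact hvw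
    · rw [show 2 * n + 1 - (n + 1) = n by omega, fb_n, fb_n1, O.h_comm]
      exact hvw
  orth := by
    intro i j hi hj hij
    rcases k_cases hi with ⟨x, rfl⟩ | rfl | rfl <;> rcases k_cases hj with ⟨y, rfl⟩ | rfl | rfl
    · rw [fb_ps, fb_ps]
      apply Fr.hb_ne
      intro h1
      apply hij
      have h2 : y = ng x := h1
      rw [h2, ps_ng]
    · rw [fb_ps, fb_n]; exact Fr.h0 x v hv
    · rw [fb_ps, fb_n1]; exact Fr.h0 x w hw
    · rw [fb_ps, fb_n]; exact Fr.h0' y hv
    · exact h_self' O Q _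
    · omega
    · rw [fb_ps, fb_n1]; exact Fr.h0' y hw
    · omega
    · exact h_self' O Q _
  sing := by
    intro i hi
    have h1 : i = ps ((⟨i, hi⟩, true) : Fin n × Bool) := rfl
    rw [h1, fb_ps]
    exact Q.qb _
  nd := by
    intro y hy
    have h1 : y ∈ Fr.V0 := by
      apply O.V0
      intro x
      have := hy (ps x) (ps_lt x)
      rwa [fb_ps] at this
    have h2 := hy n (by omega)
    have h3 := hy (n + 1) (by omega)
    rw [fb_n] at h2
    rw [fb_n1] at h3
    have hv0 : v ≠ 0 := by rintro rfl; exact hvw (H.zero_left _)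
    obtain ⟨c, rfl⟩ := plane_cut O hP hv hv0 h1 h2
    rw [H.smul_left] at h3
    rw [(mul_eq_zero.1 h3).resolve_right hvw, zero_smul]

/-! ### membership in the flag -/

section Mem

variable (O : KFacts.WittOrth.Orth Fr) (Q : Qd Fr q) (hP : DblR.MinusTor.IsPlane Fr) {v w : V} (hv : v ∈ Fr.V0)
  (hw : w ∈ Fr.V0) (hvw : H.h v w ≠ 0)

theorem b_mem {x : Fin n × Bool} {k : ℕ} (hk : ps x < k) : Fr.b x ∈ (fl O Q hP hv hw hvw).Fs k := by
  have := (fl O Q hP hv hw hvw).f_mem hk (ps_lt x)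
  rwa [fb_ps] at this

theorem V0_mem {y : V} (hy : y ∈ Fr.V0) {k : ℕ} (hk : n + 2 ≤ k) : y ∈ (fl O Q hP hv hw hvw).Fs k := by
  intro j hj
  have h1 : j = ps ((⟨j, by omega⟩, true) : Fin n × Bool) := rfl
  rw [h1, fb_ps]
  exact Fr.h0' _ hy

/-- the long root groups -/
theorem uni_X {x y : Fin n × Bool} (hxy : x.1 ≠ y.1) (hpos : ps x + ps y < 2 * n + 1) (t : F) :
    (fl O Q hP hv hw hvw).Uni (Fr.X x y t) ∧ Tp (fl O Q hP hv hw hvw) (Fr.X x y t) := by
  have hV : ∀ z ∈ Fr.V0, Fr.X x y t z + z = 0 := by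
    intro z hz
    rw [X_apply_V0 Fr hxy hz, O.addV]
  have hU : (fl O Q hP hv hw hvw).Uni (Fr.X x y t) := by
    apply Uni.of_basis
    intro k hk
    rcases k_cases hk with ⟨z, rfl⟩ | rfl | rfl
    · rw [fb_ps, X_ap O hxy]
      have hx := ps_ng x
      have hy := ps_ng y
      by_cases h1 : z = ng x
      · subst h1
        have e1 : H.h (Fr.b (ng x)) (Fr.b y) = 0 := Fr.hb_of_ne (x := ng x) (y := y) hxy
        rw [O.hbb', e1, mul_zero, zero_smul, add_zero, add_right_comm, O.addV, zero_add]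
        exact Submodule.smul_mem _ _ (b_mem O Q hP hv hw hvw (by omega))
      · by_cases h2 : z = ng y
        · subst h2
          have e1 : H.h (Fr.b (ng y)) (Fr.b x) = 0 := Fr.hb_of_ne (x := ng y) (y := x) hxy.symm
          rw [O.hbb', e1, mul_zero, zero_smul, add_zero, add_right_comm, O.addV, zero_add]
          exact Submodule.smul_mem _ _ (b_mem O Q hP hv hw hvw (by omega))
        · have e1 : H.h (Fr.b z) (Fr.b x) = 0 := Fr.hb_ne (fun h => h1 (by rw [h]; exact (ng_ng z).symm))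
          have e2 : H.h (Fr.b z) (Fr.b y) = 0 := Fr.hb_ne (fun h => h2 (by rw [h]; exact (ng_ng z).symm))
          rw [e1, e2, mul_zero, zero_smul, zero_smul, add_zero, add_zero, O.addV]
          exact zero_mem _
    · rw [fb_n, hV v hv]; exact zero_mem _
    · rw [fb_n1, hV w hw]; exact zero_mem _
  refine ⟨hU, Tp.of_basis hU ?_⟩
  rw [fb_n1, hV w hw]; exact zero_mem _

/-- the short root groups -/
theorem uni_Z {x : Fin n × Bool} (hpos : ps x + ps x < 2 * n + 1) (p : Fr.Adm) :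
    (fl O Q hP hv hw hvw).Uni (Fr.Z x p) ∧ Tp (fl O Q hP hv hw hvw) (Fr.Z x p) := by
  have hx := ps_ng x
  have hxn : ps x < n := by
    have := ps_ne x
    omega
  have hV : ∀ z ∈ Fr.V0, Fr.Z x p z + z ∈ (fl O Q hP hv hw hvw).Fs n := by
    intro z hz
    rw [Z_ap O, Fr.h0' x hz, zero_smul, add_zero, mul_zero, zero_smul, add_zero, add_right_comm, O.addV, zero_add]
    exact Submodule.smul_mem _ _ (b_mem O Q hP hv hw hvw hxn)
  have hU : (fl O Q hP hv hw hvw).Uni (Fr.Z x p) := by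
    apply Uni.of_basis
    intro k hk
    rcases k_cases hk with ⟨z, rfl⟩ | rfl | rfl
    · rw [fb_ps, Z_ap O, Fr.h0 _ _ (Fr.ok_mem p.ok), zero_smul, add_zero]
      by_cases h1 : z = ng x
      · subst h1
        rw [O.hbb', one_smul, mul_one]
        have e : Fr.b (ng x) + p.w + p.c • Fr.b x + Fr.b (ng x) = p.w + p.c • Fr.b x := by
          calc Fr.b (ng x) + p.w + p.c • Fr.b x + Fr.b (ng x) = (Fr.b (ng x) + Fr.b (ng x)) + (p.w + p.c • Fr.b x) := by
                abel
            _ = _ := by rw [O.addV, zero_add]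
        rw [e]
        exact add_mem (V0_mem O Q hP hv hw hvw (Fr.ok_mem p.ok) (by omega))
          (Submodule.smul_mem _ _ (b_mem O Q hP hv hw hvw (by omega)))
      · have e1 : H.h (Fr.b z) (Fr.b x) = 0 := Fr.hb_ne (fun h => h1 (by rw [h]; exact (ng_ng z).symm))
        rw [e1, zero_smul, mul_zero, zero_smul, add_zero, add_zero, O.addV]
        exact zero_mem _
    · rw [fb_n]; exact hV v hv
    · rw [fb_n1]
      exact (fl O Q hP hv hw hvw).Fs_mono (Nat.le_succ n) (hV w hw)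
  refine ⟨hU, Tp.of_basis hU ?_⟩
  rw [fb_n1]; exact hV w hw

end Mem

end Cfsg.Agent.OddHalf.D4.MinusB
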