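import Mathlib
import Cfsg.Agent.OddHalf.D4.MinusB.Basis

/-!
# ODD, D4, (1B), `PΩ⁻`: the graph part, the fixed vector, the filtration

helper328.
-/

set_option autoImplicit false
set_option linter.unusedSectionVars false

namespace Cfsg.Agent.OddHalf.D4.MinusB

open CoxeterSystem Cfsg.Agent.ChevalleyStructure.CoxeterGeom Cfsg.Agent.Tits.Roots Cfsg.Agent.Nodes.TypeC
  Cfsg.Agent.Tits.RootComb
open Cfsg.Agent.Nodes.Comb Cfsg.Agent.Nodes.Reps Cfsg.Agent.Nodes.WittRoot Cfsg.Agent.Nodes.BNOf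
  Cfsg.Agent.Nodes.StabComb Cfsg.Agent.Nodes.Coroot Cfsg.Agent.Nodes.KindBC Cfsg.Agent.Nodes.TypeCForm
  Cfsg.Agent.Nodes.Bruhat Cfsg.Agent.Nodes.PosPair Cfsg.Agent.Nodes.OppDec
open Cfsg.Agent Cfsg.Agent.TitsThree Cfsg.Agent.TitsThree.Siegel Cfsg.Agent.TitsThree.WittFrame
  Cfsg.Agent.TitsThree.WittWeyl Cfsg.Agent.TitsThree.FrameCN Cfsg.Agent.TitsThree.LineBorel
open Cfsg.Agent.KFacts.WittOrth Cfsg.Agent.OddHalf.DblR.MinusComb Cfsg.Agent.OddHalf.DblR.SheetMinus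
open Cfsg.Agent.KFacts.RgdAut Cfsg.Agent.KFacts.RgdDiag Cfsg.Agent.KFacts.RgdRigid Cfsg.Agent.KFacts.RgdTI
  Cfsg.Agent.KFacts.RgdCent Cfsg.Agent.OddHalf.D4.Free

variable {F : Type*} [Field F] {V : Type*} [AddCommGroup V] [Module F V] {H : HForm F V} {n : ℕ}
  {Fr : Frame H (Fin n)} {K : Type*} [Group K] {M : Model Fr K} {ψ : K →* (V ≃ₗ[F] V)} {q : V → F}
  {W : Type*} [Group W] {cs : CoxeterSystem (CoxeterMatrix.B n) W} [Finite W] {Tor : Subgroup K} {nn : Fin n → K}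
  [Finite F] [Finite V]

/-- the linear version of a lift with `σ = 1` -/
def Lf.toLin {α : MulAut K} {g : Equiv.Perm V} (L : Lf ψ q α 1 g) : V ≃ₗ[F] V :=
  { g with map_add' := L.add, map_smul' := L.smul }

theorem Lf.toLin_apply {α : MulAut K} {g : Equiv.Perm V} (L : Lf ψ q α 1 g) (v : V) : L.toLin v = g v := rfl

/-- the setup -/
structure Ctx (M : Model Fr K) (ψ : K →* (V ≃ₗ[F] V)) (q : V → F) (cs : CoxeterSystem (CoxeterMatrix.B n) W)
    (Tor : Subgroup K) (nn : Fin n → K) (T : Sylow 2 K) : Prop where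
  O : KFacts.WittOrth.Orth Fr
  P : Rep M q ψ
  Q : Qd Fr q
  R : RGD cs (isCartan n) 2 Tor nn (Nodes.WittModel.X M)
  hn : 3 ≤ n
  hA : Nodes.WittAll.AmbT Fr 2 M.I
  hN : NoCent cs (isCartan n) Tor (Nodes.WittModel.X M)
  hG1 : RGD.Sup (Nodes.WittModel.X M) {x | IsRoot cs (isCartan n) x} = ⊤
  hT : (T : Subgroup K) = RGD.Sup (Nodes.WittModel.X M) (RGD.Pos cs (isCartan n))
  hP : DblR.MinusTor.IsPlane Fr
  lift : ∀ α : MulAut K, ∃ (σ : F ≃+* F) (g : Equiv.Perm V), Lf ψ q α σ g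

variable {T : Sylow 2 K} (C : Ctx M ψ q cs Tor nn T)

include C

namespace Ctx

theorem mem_T {x : K} : x ∈ T ↔ x ∈ RGD.Sup (Nodes.WittModel.X M) (RGD.Pos cs (isCartan n)) := by rw [← C.hT]; rfl

theorem iso_of {g : V ≃ₗ[F] V} (hq : ∀ v, q (g v) = q v) : Iso H.h q g := by
  refine ⟨fun u v => ?_, hq⟩
  have h1 := C.Q.qadd (g u) (g v)
  rw [← map_add, hq, hq, hq, C.Q.qadd] at h1
  exact (add_left_cancel h1).symm

/-- **the data of the Sylow group** -/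
theorem dat {v w : V} (hv : v ∈ Fr.V0) (hw : w ∈ Fr.V0) (hvw : H.h v w ≠ 0) :
    Dat (fl C.O C.Q C.hP hv hw hvw) ψ (T : Subgroup K) := by
  have hO := C.O
  have key : ∀ u ∈ T, (fl C.O C.Q C.hP hv hw hvw).Uni (ψ u) ∧ Tp (fl C.O C.Q C.hP hv hw hvw) (ψ u) := by
    let S : Subgroup K :=
      { carrier := {u | (fl C.O C.Q C.hP hv hw hvw).Uni (ψ u) ∧ Tp (fl C.O C.Q C.hP hv hw hvw) (ψ u)}
        mul_mem' := by
          rintro a b ⟨h1, h2⟩ ⟨h3, h4⟩
          refine ⟨?_, ?_⟩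
          · rw [map_mul]; exact Uni.mul h1 h3
          · rw [map_mul]; exact Tp.mul h3 h2 h4
        one_mem' := ⟨by rw [map_one]; exact Uni.one, by rw [map_one]; exact Tp.one⟩
        inv_mem' := by
          rintro a ⟨h1, h2⟩
          exact ⟨by rw [map_inv]; exact Uni.inv h1, by rw [map_inv]; exact Tp.inv h1 h2⟩ }
    have hS : RGD.Sup (Nodes.WittModel.X M) (RGD.Pos cs (isCartan n)) ≤ S := by
      refine RGD.Sup_le fun r hr => ?_
      obtain ⟨x, y, hxy, rfl, hlt⟩ := exists_of_pos cs hr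
      rcases hxy with hxy | rfl
      · intro u hu
        obtain ⟨t, rfl⟩ := (mem_X_ne M hxy).1 hu
        have := uni_X C.O C.Q C.hP hv hw hvw hxy hlt t
        rw [← C.P.X] at this
        exact this
      · intro u hu
        obtain ⟨p, rfl⟩ := (mem_X_self M).1 hu
        have := uni_Z C.O C.Q C.hP hv hw hvw hlt p
        rw [← C.P.Z] at this
        exact this
    intro u hu
    exact hS (C.mem_T.1 hu)
  refine ⟨C.P.inj, fun u _ => C.iso_of (C.P.q u), fun u hu => (key u hu).1, fun u hu => (key u hu).2, ?_⟩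
  intro i k hi hik hk s
  obtain ⟨x, hx⟩ : ∃ x : Fin n × Bool, x = (⟨i, hi⟩, true) := ⟨_, rfl⟩
  have hpx : ps x = i := by rw [hx]; rfl
  have hfi : fb Fr v w i = Fr.b x := by rw [← hpx, fb_ps]
  have short : ∀ z ∈ Fr.V0, fb Fr v w k = z → ∃ u ∈ (T : Subgroup K), Sieg H.h q (fb Fr v w) i k s (ψ u) := by
    intro z hz hkz
    obtain ⟨p, hp⟩ := C.O.exists_adm hz
    refine ⟨M.Z x (Frame.Adm.smul s p), C.mem_T.2 (RGD.le_Sup (rt_pos cs (Or.inr rfl) (by omega))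
      ((mem_X_self M).2 ⟨_, rfl⟩)), ?_⟩
    intro y
    have hc : p.c = q z := by rw [← hp]; exact adm_c' C.O C.Q p
    rw [C.P.Z, Z_ap C.O, hfi, hkz, Frame.Adm.smul_w, C.O.adm_c, hp, H.smul_right, C.O.σ, smul_smul, hc]
    congr 2
    congr 2
    rw [mul_comm]
  rcases k_cases (show k < 2 * n + 2 by omega) with ⟨y, rfl⟩ | hkn | hkn
  · have hxy : x.1 ≠ y.1 := by
      intro h1
      rcases cases_eq h1.symm with h2 | h2
      · rw [h2] at hik; omega
      · rw [h2] at hk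
        have := ps_ng x
        omega
    refine ⟨M.X x y s, C.mem_T.2 (RGD.le_Sup (rt_pos cs (Or.inl hxy) (by omega))
      ((mem_X_ne M hxy).2 ⟨_, rfl⟩)), ?_⟩
    intro z
    rw [C.P.X, X_ap C.O hxy, hfi, fb_ps, C.Q.qb, mul_zero, zero_mul, zero_smul, add_zero]
  · exact short v hv (by rw [hkn, fb_n])
  · exact short w hw (by rw [hkn, fb_n1])

omit C in
/-- the frame parts of the elements of `C_A(Z(T))` -/
def BB (_C : Ctx M ψ q cs Tor nn T) (A : Subgroup (MulAut K)) (hA : GoodA T A) : Subgroup (MulAut K) where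
  carrier := {β | (∃ e ∈ A, FixZ T e ∧ ∃ u ∈ T, β = MulAut.conj u * e) ∧
    Fix β (RGD.Sup (Nodes.WittModel.X M) (RGD.Pos cs (isCartan n))) ∧ Fix β (UN cs (isCartan n) (Nodes.WittModel.X M))}
  mul_mem' := by
    rintro β β' ⟨⟨e, he, hez, u, hu, rfl⟩, h1, h2⟩ ⟨⟨e', he', hez', u', hu', rfl⟩, h3, h4⟩
    refine ⟨⟨e * e', mul_mem he he', fun z hz => by rw [MulAut.mul_apply, hez' z hz, hez z hz], u * e u',
      mul_mem hu (hA.norm e he u' hu'), ?_⟩, h1.mul h3, h2.mul h4⟩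
    ext x
    simp only [MulAut.mul_apply, MulAut.conj_apply, map_mul, map_inv, mul_inv_rev, mul_assoc]
  one_mem' := ⟨⟨1, one_mem _, fun _ _ => rfl, 1, one_mem _, by rw [map_one, one_mul]⟩, fun _ => Iff.rfl, fun _ => Iff.rfl⟩
  inv_mem' := by
    rintro β ⟨⟨e, he, hez, u, hu, rfl⟩, h1, h2⟩
    refine ⟨⟨e⁻¹, inv_mem he, fun z hz => ?_, e⁻¹ u⁻¹, hA.norm _ (inv_mem he) _ (inv_mem hu), ?_⟩, h1.inv, h2.inv⟩
    · conv_lhs => rw [← hez z hz]
      exact MulAut.inv_apply_self _ _ _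
    · rw [mul_inv_rev]
      ext x
      rw [MulAut.mul_apply, MulAut.mul_apply, MulAut.conj_inv_apply, MulAut.conj_apply, map_mul, map_mul, map_inv, inv_inv]

variable {A : Subgroup (MulAut K)} (hA : GoodA T A)

theorem mem_BB {β : MulAut K} : β ∈ C.BB A hA ↔ (∃ e ∈ A, FixZ T e ∧ ∃ u ∈ T, β = MulAut.conj u * e) ∧
    Fix β (RGD.Sup (Nodes.WittModel.X M) (RGD.Pos cs (isCartan n))) ∧
      Fix β (UN cs (isCartan n) (Nodes.WittModel.X M)) := Iff.rfl

theorem exists_pow {A : Subgroup (MulAut K)} (hA : GoodA T A) {e : MulAut K} (he : e ∈ A) : ∃ m : ℕ, e ^ 2 ^ m = 1 := by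
  obtain ⟨m, hm⟩ := hA.two ⟨e, he⟩
  exact ⟨m, by simpa using congrArg Subtype.val hm⟩

/-- the frame part of an element of `C_A(Z(T))` -/
theorem exists_BB {e : MulAut K} (he : e ∈ A) (hez : FixZ T e) : ∃ u ∈ T, MulAut.conj u * e ∈ C.BB A hA := by
  obtain ⟨m, hm⟩ := C.exists_pow hA he
  obtain ⟨u, hu, hU, hUN, -, -⟩ := exists_beta C.O C.R C.hn C.hG1 T C.hT hm (hA.norm e he)
  exact ⟨u, hu, ⟨e, he, hez, u, hu, rfl⟩, hU, hUN⟩

/-- the properties of the elements of `BB` -/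
theorem BB_facts {β : MulAut K} (hβ : β ∈ C.BB A hA) : (∃ m : ℕ, β ^ 2 ^ m = 1) ∧ Diag Tor (Nodes.WittModel.X M) β 1 ∧
    ∃ g : Equiv.Perm V, Lf ψ q β 1 g := by
  obtain ⟨⟨e, he, hez, u, hu, rfl⟩, h1, h2⟩ := hβ
  obtain ⟨m, hm⟩ := C.exists_pow hA he
  have hG := GG_eq_top (T := Tor) C.hG1
  have heU : Fix e (RGD.Sup (Nodes.WittModel.X M) (RGD.Pos cs (isCartan n))) := by
    intro x
    have h3 := h1 x
    rw [MulAut.mul_apply, MulAut.conj_apply] at h3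
    rw [← h3]
    have hu' := C.mem_T.1 hu
    constructor
    · intro h4; exact mul_mem (mul_mem hu' h4) (inv_mem hu')
    · intro h4
      have := mul_mem (mul_mem (inv_mem hu') h4) hu'
      have e1 : u⁻¹ * (u * e x * u⁻¹) * u = e x := by group
      rwa [e1] at this
  refine ⟨⟨m, pow_eq_one_of_frame C.R hG heU (C.mem_T.1 hu) h2 hm⟩, ?_, ?_⟩
  · obtain ⟨s, D⟩ := exists_diag C.R hG h1 h2
    have hs : s = 1 := sym_B C.hn (D.matrix C.R)
    rwa [hs] at D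
  · obtain ⟨σ, g, L⟩ := C.lift e
    have h3 := sigma_of_fixZ C.O C.R C.hn C.hA C.hN C.hG1 T C.hT C.P L hez
    subst h3
    have L2 := (Lf.conj C.P u).mul L
    rw [one_mul] at L2
    exact ⟨_, L2⟩

theorem BB_two : IsPGroup 2 ↥(C.BB A hA) := by
  rintro ⟨β, hβ⟩
  obtain ⟨⟨m, hm⟩, -⟩ := C.BB_facts hA hβ
  exact ⟨m, Subtype.ext (by simpa using hm)⟩

/-- **the fixed vector** -/
theorem exists_v : ∃ v ∈ Fr.V0, v ≠ 0 ∧ ∀ β ∈ C.BB A hA, ∀ g : Equiv.Perm V, Lf ψ q β 1 g → g v = v := by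
  have hn := C.hn
  let x : Fin n × Bool := i0 hn
  let Xs := Nodes.WittModel.X M (rt x x)
  have hD : ∀ β ∈ C.BB A hA, ∀ z, β z ∈ Xs ↔ z ∈ Xs := by
    intro β hβ z
    obtain ⟨-, D, -⟩ := C.BB_facts hA hβ
    exact D.root_comp C.R (fun _ _ => rfl) (isRoot_rt cs (Or.inr rfl)) z
  let act : MulAction ↥(C.BB A hA) ↥Xs :=
    { smul := fun β z => ⟨β.1 z.1, (hD β.1 β.2 z.1).2 z.2⟩
      one_smul := fun z => Subtype.ext rfl
      mul_smul := fun β β' z => Subtype.ext rfl }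
  have hfin : Finite K := Finite.of_injective (fun u => ((ψ u : V ≃ₗ[F] V) : V → V)) (fun a b hab => C.P.inj
    (LinearEquiv.ext fun v => congrFun hab v))
  obtain ⟨p0, hp0⟩ := C.O.p0
  have h1 : M.Z x p0 ≠ 1 := by
    intro h2
    have h3 : Fr.Z x p0 = 1 := by rw [← C.P.Z, h2, map_one]
    rw [C.O.z_inj h3] at hp0
    exact hp0 Frame.Adm.one_c
  have hcard : 2 ∣ Nat.card ↥Xs := by
    have h2 : orderOf (⟨M.Z x p0, (mem_X_self M).2 ⟨p0, rfl⟩⟩ : ↥Xs) = 2 := by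
      apply orderOf_eq_prime
      · apply Subtype.ext
        show M.Z x p0 ^ 2 = 1
        apply C.P.inj
        rw [map_pow, C.P.Z, pow_two, C.O.z_sq, map_one]
      · intro h3
        exact h1 (congrArg Subtype.val h3)
    rw [← h2]
    exact orderOf_dvd_natCard _
  have : Fact (Nat.Prime 2) := ⟨Nat.prime_two⟩
  obtain ⟨z, hz, hz1⟩ := (C.BB_two hA).exists_fixed_point_of_prime_dvd_card_of_fixed_point ↥Xs hcard (a := 1)
    (fun β => Subtype.ext (map_one β.1))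
  obtain ⟨p, hp⟩ := (mem_X_self M).1 z.2
  refine ⟨p.w, Fr.ok_mem p.ok, ?_, ?_⟩
  · intro h2
    apply hz1
    apply Subtype.ext
    show (1 : K) = z.1
    rw [hp, C.O.adm_one' h2]
    apply C.P.inj
    rw [map_one, C.P.Z, Fr.Z_one]
  · intro β hβ g L
    obtain ⟨⟨m, hm⟩, D, -⟩ := C.BB_facts hA hβ
    have h2 : β (M.Z x p) = M.Z x p := by
      have h3 := congrArg Subtype.val (hz ⟨β, hβ⟩)
      have h4 : β z.1 = z.1 := h3
      rwa [hp] at h4
    exact ((frame_Z C.O C.P C.Q C.R hn D L hm).1 h2).symm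

/-- the action on the plane -/
theorem BB_w {v w : V} (hv : v ∈ Fr.V0) (hw : w ∈ Fr.V0) (hvw : H.h v w ≠ 0)
    {β : MulAut K} (hβ : β ∈ C.BB A hA) {g : Equiv.Perm V} (L : Lf ψ q β 1 g) (hgv : g v = v) :
    ∃ c : F, g w = w + c • v ∧ (c = 0 ∨ c * q v = H.h w v) := by
  obtain ⟨⟨m, hm⟩, D, -⟩ := C.BB_facts hA hβ
  have hO := C.O
  have hgw : g w ∈ Fr.V0 := L.V0 C.O C.P C.Q (frame_b C.O C.P C.Q C.R C.hn D L) hw
  have h1 : H.h (g w + w) v = 0 := by
    have h2 := L.h C.Q w v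
    rw [hgv] at h2
    rw [H.add_left, h2]
    exact C.O.add_self _
  have hv0 : v ≠ 0 := by rintro rfl; exact hvw (H.zero_left _)
  obtain ⟨c, hc⟩ := plane_cut C.O C.hP hv hv0 (add_mem hgw hw) h1
  have h3 : g w = w + c • v := by
    rw [← hc, add_comm (g w), ← add_assoc, C.O.addV, zero_add]
  refine ⟨c, h3, ?_⟩
  have h4 := L.q w
  rw [h3, C.Q.qadd, C.Q.qsmul, H.smul_right, C.O.σ] at h4
  have h5 : c * (c * q v + H.h w v) = 0 := by
    have h6 : q w + c * c * q v + c * H.h w v = q w := h4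
    linear_combination h6
  rcases mul_eq_zero.1 h5 with h6 | h6
  · exact Or.inl h6
  · exact Or.inr (C.O.eq_of_add h6)

/-- an element of `BB` which is trivial on the plane is trivial -/
theorem BB_eq_one {v w : V} (hv : v ∈ Fr.V0) (hw : w ∈ Fr.V0) (hvw : H.h v w ≠ 0)
    {β : MulAut K} (hβ : β ∈ C.BB A hA) {g : Equiv.Perm V} (L : Lf ψ q β 1 g) (hgv : g v = v) (hgw : g w = w) :
    β = 1 := by
  obtain ⟨⟨m, hm⟩, D, -⟩ := C.BB_facts hA hβ
  have hb := frame_lin C.O C.P C.Q C.R C.hn D L hm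
  have h0 : ∀ y ∈ Fr.V0, L.toLin y = y := by
    intro y hy
    have hv0 : v ≠ 0 := by rintro rfl; exact hvw (H.zero_left _)
    have hwv : H.h w v ≠ 0 := by rw [C.O.h_comm]; exact hvw
    have h1 : H.h (y + (H.h y v / H.h w v) • w) v = 0 := by
      rw [H.add_left, H.smul_left, div_mul_cancel₀ _ hwv]
      exact C.O.add_self _
    obtain ⟨c, hc⟩ := plane_cut C.O C.hP hv hv0 (add_mem hy (Submodule.smul_mem _ _ hw)) h1
    have h2 : y = c • v + (H.h y v / H.h w v) • w := by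
      rw [← hc, add_assoc, C.O.addV, add_zero]
    rw [h2, map_add, map_smul, map_smul, L.toLin_apply, L.toLin_apply, hgv, hgw]
  have h1 : L.toLin = 1 := C.O.eq_one hb h0
  have h2 : ∀ y, g y = y := fun y => congrArg (fun k : V ≃ₗ[F] V => k y) h1
  ext x
  apply C.P.inj
  ext y
  have h3 := L.it x y
  rw [h2, h2] at h3
  exact h3

include hA

/-- **(k4)** -/
theorem graph {a b : MulAut K} (ha : a ∈ A) (hb : b ∈ A) (haz : FixZ T a) (hbz : FixZ T b) :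
    a ∈ (MulAut.conj : K →* MulAut K).range ∨ b ∈ (MulAut.conj : K →* MulAut K).range ∨
      a⁻¹ * b ∈ (MulAut.conj : K →* MulAut K).range := by
  obtain ⟨u, hu, hua⟩ := C.exists_BB hA ha haz
  obtain ⟨u', hu', hub⟩ := C.exists_BB hA hb hbz
  obtain ⟨v, hv, hv0, hfix⟩ := C.exists_v hA
  obtain ⟨w, hw, hvw⟩ : ∃ w ∈ Fr.V0, H.h v w ≠ 0 := by
    by_contra hcon
    push Not at hcon
    exact hv0 (C.O.nd v hv hcon)
  obtain ⟨-, -, g, L⟩ := C.BB_facts hA hua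
  obtain ⟨-, -, g', L'⟩ := C.BB_facts hA hub
  have hgv := hfix _ hua _ L
  have hgv' := hfix _ hub _ L'
  obtain ⟨c, hc, hc2⟩ := C.BB_w hA hv hw hvw hua L hgv
  obtain ⟨c', hc', hc2'⟩ := C.BB_w hA hv hw hvw hub L' hgv'
  have hin : ∀ {u : K} {e : MulAut K}, MulAut.conj u * e = 1 → e ∈ (MulAut.conj : K →* MulAut K).range := by
    intro u e h1
    exact ⟨u⁻¹, by rw [map_inv]; exact inv_eq_of_mul_eq_one_right h1⟩
  by_cases h0 : c = 0
  · left
    apply hin (C.BB_eq_one hA hv hw hvw hua L hgv ?_)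
    rw [hc, h0, zero_smul, add_zero]
  by_cases h0' : c' = 0
  · right; left
    apply hin (C.BB_eq_one hA hv hw hvw hub L' hgv' ?_)
    rw [hc', h0', zero_smul, add_zero]
  right; right
  have hqv : q v ≠ 0 := fun h1 => hv0 (q_ne C.O C.Q hv h1)
  have hcc : c = c' := by
    have h1 := hc2.resolve_left h0
    have h2 := hc2'.resolve_left h0'
    exact mul_right_cancel₀ hqv (h1.trans h2.symm)
  have h1 : (MulAut.conj u * a)⁻¹ * (MulAut.conj u' * b) = 1 := by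
    have h2 := mul_mem (inv_mem hua) hub
    have L2 := L.inv.mul L'
    rw [inv_one, one_mul] at L2
    refine C.BB_eq_one hA hv hw hvw h2 L2 ?_ ?_
    · show g.symm (g' v) = v
      rw [hgv', Equiv.symm_apply_eq, hgv]
    · show g.symm (g' w) = w
      rw [hc', Equiv.symm_apply_eq, hc, hcc]
  have h2 : MulAut.conj u * a = MulAut.conj u' * b := inv_mul_eq_one.1 h1
  have h3 : b = MulAut.conj (u'⁻¹ * u) * a := by
    rw [map_mul, map_inv, mul_assoc, h2, inv_mul_cancel_left]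
  refine ⟨a⁻¹ (u'⁻¹ * u), ?_⟩
  generalize u'⁻¹ * u = k at h3 ⊢
  rw [h3]
  ext x
  rw [MulAut.mul_apply, MulAut.mul_apply, MulAut.conj_apply, MulAut.conj_apply, map_mul, map_mul, map_inv,
    MulAut.inv_apply_self]

/-- **(k3)** -/
theorem filt (h4 : ∃ s : F, s ≠ 0 ∧ s ≠ 1) : ∃ U L, FltA T A U L := by
  obtain ⟨v, hv, hv0, hfix⟩ := C.exists_v hA
  obtain ⟨w, hw, hvw⟩ : ∃ w ∈ Fr.V0, H.h v w ≠ 0 := by
    by_contra hcon
    push Not at hcon
    exact hv0 (C.O.nd v hv hcon)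
  have D := C.dat hv hw hvw
  refine Chain.flt (Dat.chain D (A := A) (φ := FixZ T) ⟨fun e he _ t ht => hA.norm e he t ht, ?_⟩ h4)
  intro e he hez
  obtain ⟨u, hu, hue⟩ := C.exists_BB hA he hez
  obtain ⟨σ, g, L⟩ := C.lift e
  have h3 := sigma_of_fixZ C.O C.R C.hn C.hA C.hN C.hG1 T C.hT C.P L hez
  subst h3
  have L2 := (Lf.conj C.P u).mul L
  rw [one_mul] at L2
  have hgv := hfix _ hue _ L2
  obtain ⟨c, hc, -⟩ := C.BB_w hA hv hw hvw hue L2 hgv
  obtain ⟨⟨m, hm⟩, Dg, -⟩ := C.BB_facts hA hue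
  have hb := frame_lin C.O C.P C.Q C.R C.hn Dg L2 hm
  refine ⟨L.toLin, C.iso_of fun y => L.q y, ?_, fun x y => L.it x y⟩
  have h5 : (fl C.O C.Q C.hP hv hw hvw).Uni L2.toLin := by
    apply Uni.of_basis
    intro k hk
    rcases k_cases hk with ⟨x, rfl⟩ | rfl | rfl
    · rw [fb_ps, L2.toLin_apply, hb, C.O.addV]; exact zero_mem _
    · rw [fb_n, L2.toLin_apply, hgv, C.O.addV]; exact zero_mem _
    · rw [fb_n1, L2.toLin_apply, hc, add_right_comm, C.O.addV, zero_add]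
      have := (fl C.O C.Q C.hP hv hw hvw).f_mem (Nat.lt_succ_self n) (by omega)
      rw [fb_n] at this
      exact Submodule.smul_mem _ _ this
  have h6 : L.toLin = (ψ u)⁻¹ * L2.toLin := by
    ext y
    show g y = (ψ u)⁻¹ (ψ u (g y))
    exact ((ψ u).symm_apply_apply (g y)).symm
  rw [h6]
  exact Uni.mul (Uni.inv (D.uni u hu)) h5

end Ctx

end Cfsg.Agent.OddHalf.D4.MinusB
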