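import Mathlib
import Cfsg.Agent.OddHalf.D4.MinusB.Graph
import Cfsg.Agent.OddHalf.D4.MinusB.Descent

/-!
# ODD, D4, (1B), `PΩ⁻`: `AFacts` from the setup

helper328.
-/

set_option autoImplicit false
set_option linter.unusedSectionVars false

namespace Cfsg.Agent.OddHalf.D4.MinusB

open CoxeterSystem Cfsg.Agent.ChevalleyStructure.CoxeterGeom Cfsg.Agent.Tits.Roots Cfsg.Agent.Nodes.TypeC
  Cfsg.Agent.Tits.RootComb
open Cfsg.Agent.Nodes.Comb Cfsg.Agent.Nodes.Reps Cfsg.Agent.Nodes.WittRoot Cfsg.Agent.Nodes.BNOf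
  Cfsg.Agent.Nodes.StabComb Cfsg.Agent.Nodes.Coroot Cfsg.Agent.Nodes.KindBC Cfsg.Agent.Nodes.TypeCForm
  Cfsg.Agent.Nodes.Bruhat Cfsg.Agent.Nodes.PosPair Cfsg.Agent.Nodes.OppDec
open Cfsg.Agent Cfsg.Agent.TitsThree Cfsg.Agent.TitsThree.Siegel Cfsg.Agent.TitsThree.WittFrame
  Cfsg.Agent.TitsThree.WittWeyl Cfsg.Agent.TitsThree.FrameCN Cfsg.Agent.TitsThree.LineBorel
open Cfsg.Agent.KFacts.WittOrth Cfsg.Agent.OddHalf.DblR.MinusComb Cfsg.Agent.OddHalf.DblR.SheetMinus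
open Cfsg.Agent.KFacts.RgdAut Cfsg.Agent.KFacts.RgdDiag Cfsg.Agent.KFacts.RgdRigid Cfsg.Agent.KFacts.RgdTI
  Cfsg.Agent.KFacts.RgdCent Cfsg.Agent.OddHalf.D4.Free

variable {F : Type*} [Field F] {V : Type*} [AddCommGroup V] [Module F V] {H : HForm F V} {n : ℕ}
  {Fr : Frame H (Fin n)} {K : Type*} [Group K] {M : Model Fr K} {ψ : K →* (V ≃ₗ[F] V)} {q : V → F}
  {W : Type*} [Group W] {cs : CoxeterSystem (CoxeterMatrix.B n) W} [Finite W] {Tor : Subgroup K} {nn : Fin n → K}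
  [Finite F] [Finite V]

variable {T : Sylow 2 K} (C : Ctx M ψ q cs Tor nn T)

include C

namespace Ctx

/-- an element of `A` with a linear lift fixes `Z(T)` -/
theorem fixZ {A : Subgroup (MulAut K)} (hA : GoodA T A) {e : MulAut K} (he : e ∈ A) {σ : F ≃+* F} {g : Equiv.Perm V}
    (L : Lf ψ q e σ g) (hσ : σ = 1) : FixZ T e := by
  subst hσ
  obtain ⟨m, hm⟩ := C.exists_pow hA he
  exact fixZ_of_lin C.O C.R C.hn C.hA C.hN C.hG1 T C.hT C.P C.Q L hm (hA.norm e he)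

/-- (k1) -/
theorem cyc {A : Subgroup (MulAut K)} (hA : GoodA T A) {a b : MulAut K} (ha : a ∈ A) (hb : b ∈ A)
    (haz : FixZ T (a * a)) (hbz : FixZ T (b * b)) : FixZ T a ∨ FixZ T b ∨ FixZ T (a⁻¹ * b) := by
  obtain ⟨σ, g, L⟩ := C.lift a
  obtain ⟨τ, k, L'⟩ := C.lift b
  have h1 := sigma_of_fixZ C.O C.R C.hn C.hA C.hN C.hG1 T C.hT C.P (L.mul L) haz
  have h2 := sigma_of_fixZ C.O C.R C.hn C.hA C.hN C.hG1 T C.hT C.P (L'.mul L') hbz
  rcases ringAut_cyc h1 h2 with h | h | h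
  · exact Or.inl (C.fixZ hA ha L h)
  · exact Or.inr (Or.inl (C.fixZ hA hb L' h))
  · exact Or.inr (Or.inr (C.fixZ hA (mul_mem (inv_mem ha) hb) (L.inv.mul L') h))

/-- (k5) -/
theorem out {A : Subgroup (MulAut K)} (hA : GoodA T A) {e : MulAut K} (he : e ∈ A) (hee : e * e = 1) : FixZ T e := by
  obtain ⟨σ, g, L⟩ := C.lift e
  refine C.fixZ hA he L ?_
  by_contra hσ
  have h2 : e ^ 2 = 1 := by rw [pow_two, hee]
  obtain ⟨u, hu, hU, hUN, hk, D⟩ := exists_beta C.O C.R C.hn C.hG1 T C.hT (m := 1) (by rwa [pow_one]) (hA.norm e he)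
  have L2 := (Lf.conj C.P u).mul L
  rw [one_mul] at L2
  have hb := frame_b C.O C.P C.Q C.R C.hn D L2
  obtain ⟨-, h3⟩ := L2.pow_eq C.O C.P C.Q (by have := C.hn; omega) (hk 2 h2)
  obtain ⟨p0, hp0⟩ := C.O.p0
  have hw0 : p0.w ≠ 0 := by
    intro h4
    rw [C.O.adm_one' h4] at hp0
    exact hp0 Frame.Adm.one_c
  obtain ⟨w, hw, hvw⟩ : ∃ w ∈ Fr.V0, H.h p0.w w ≠ 0 := by
    by_contra hcon
    push Not at hcon
    exact hw0 (C.O.nd _ (Fr.ok_mem p0.ok) hcon)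
  obtain ⟨y, hy, hy0, hqy⟩ := descent (V₀ := Fr.V0) C.O.two C.Q.qadd C.Q.qsmul H.smul_left H.add_left
    ⟨p0.w, Fr.ok_mem p0.ok, w, hw, hvw⟩ hσ L2.add L2.smul L2.q
    (fun v => by
      have := congrArg (fun k : Equiv.Perm V => k v) h3
      rw [pow_two] at this
      exact this)
    (fun w hw => L2.V0 C.O C.P C.Q hb hw)
  exact hy0 (q_ne C.O C.Q hy hqy)

/-- **The facts.** -/
theorem afacts (h4 : ∃ s : F, s ≠ 0 ∧ s ≠ 1) : AFacts T where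
  sq z hz := by
    obtain ⟨t, rfl⟩ := (mem_X_ne M (i01 C.hn)).1 ((inZ_iff' C.O C.R C.hn C.hA C.hN C.hG1 T C.hT).1 hz)
    apply C.P.inj
    rw [map_mul, map_one, C.P.X, C.O.x_sq]
  cyc A hA a ha b hb haz hbz := C.cyc hA ha hb haz hbz
  field A hA e he g h := by
    obtain ⟨σ, k, L⟩ := C.lift e
    exact C.fixZ hA he L (sigma_of_fix_conj C.O C.R C.hn C.hA C.hN C.hG1 T C.hT C.P L g h)
  filt A hA := C.filt hA h4
  graph A hA a ha b hb haz hbz := C.graph hA ha hb haz hbz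
  out := Or.inr (Or.inl fun A hA e he hee => C.out hA he hee)

end Ctx

end Cfsg.Agent.OddHalf.D4.MinusB
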