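import Mathlib
import Cfsg.Agent.OddHalf.D4.MinusB.Lift
import Cfsg.Agent.AutOrth.Final

/-!
# ODD, D4, (1B), `PΩ⁻`: the instance of `Lift`

helper335 for helper328. `qd_minus`, `rep_minus` : the quadratic form and the natural representation of
`PΩ⁻_{2m+2}(F)`, `|F|` even; `exists_lift` : every automorphism is induced by a semilinear isometry.
-/

set_option autoImplicit false
set_option linter.unusedSectionVars false

namespace Cfsg.Agent.OddHalf.D4.MinusB

open CoxeterSystem Cfsg.Agent.ChevalleyStructure.CoxeterGeom Cfsg.Agent.Tits.Roots Cfsg.Agent.Nodes.TypeC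
open Cfsg.Agent Cfsg.Agent.TitsThree Cfsg.Agent.TitsThree.Siegel Cfsg.Agent.TitsThree.WittFrame
  Cfsg.Agent.TitsThree.WittWeyl Cfsg.Agent.TitsThree.FrameCN Cfsg.Agent.TitsThree.LineBorel
open Cfsg.Agent.KFacts.WittOrth Cfsg.Agent.KFacts.SpecMinus
open QuadraticMap Cfsg.Agent.LieClassical.OrthCore Cfsg.Agent.LieClassical.OrthTrans
  Cfsg.Agent.LieClassical.OrthForms Cfsg.Agent.LieClassical.OrthSimple
  Cfsg.Agent.TitsThree.KSideO Cfsg.Agent.TitsThree.StdData Cfsg.Agent.TitsThree.WBridge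
  Cfsg.Agent.ClassicalGeometry.OrthSemi Cfsg.Agent.ClassicalGeometry.SympAutSemi

variable {F : Type*} [Field F]

/-- the quadratic form of the minus frame -/
theorem qd_minus (h2 : (2 : F) = 0) {m : ℕ} (a b : F)
    (hab : ∀ z₁ z₂ : F, z₁ ^ 2 + a * z₁ * z₂ + b * z₂ ^ 2 = 0 → z₁ = 0 ∧ z₂ = 0) :
    Qd (toFrame (wminus m F a b hab)) (minusForm m F a b) where
  qadd v w := by
    show minusForm m F a b (v + w) = minusForm m F a b v + minusForm m F a b w + polar (minusForm m F a b) v w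
    rw [QuadraticMap.polar]; ring
  qsmul c v := by
    rw [QuadraticMap.map_smul, smul_eq_mul]
  qb := by
    rintro ⟨i, c⟩
    cases c
    · have h1 : (0 : F) = -minusForm m F a b ((wminus m F a b hab).f i) := (wminus m F a b hab).f_sing i
      exact neg_eq_zero.1 h1.symm
    · have h1 : (0 : F) = -minusForm m F a b ((wminus m F a b hab).e i) := (wminus m F a b hab).e_sing i
      exact neg_eq_zero.1 h1.symm
  qok w hw := by
    refine ⟨hw, ?_⟩
    show minusForm m F a b w = -minusForm m F a b w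
    have h1 : minusForm m F a b w + minusForm m F a b w = 0 := by rw [← two_mul, h2, zero_mul]
    exact eq_neg_of_add_eq_zero_left h1

section

variable [Finite F] (h2 : (2 : F) = 0) {m : ℕ} (hm2 : 2 ≤ m) (hm0 : 0 < m) (a b : F)
  (hab : ∀ z₁ z₂ : F, z₁ ^ 2 + a * z₁ * z₂ + b * z₂ ^ 2 = 0 → z₁ = 0 ∧ z₂ = 0)
  (O : Orth (toFrame (wminus m F a b hab)))
  (hI : ∀ g ∈ (modelMinus hm2 a b hab).I, (HO (minusForm m F a b)).IsIso g)
  {W : Type*} [Group W] (cs : CoxeterSystem (CoxeterMatrix.B m) W)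

/-- the natural representation of `PΩ⁻` -/
theorem rep_minus : Rep (modelMinus hm2 a b hab) (minusForm m F a b)
    (KFacts.SpecMinus.ψ (modelMinus hm2 a b hab) O hI hm0 cs) where
  inj := KFacts.SpecMinus.ψ_inj _ O hI hm0 cs
  X x y t := KFacts.SpecMinus.ψ_φ _ O hI hm0 cs _
  Z x p := KFacts.SpecMinus.ψ_φ _ O hI hm0 cs _
  q u v := by
    obtain ⟨g, rfl⟩ := KFacts.SpecMinus.φ_surj (modelMinus hm2 a b hab) cs hm0 u
    rw [KFacts.SpecMinus.ψ_φ]
    exact E_le_O g.2 v

include h2 in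
/-- **Every automorphism of `PΩ⁻` is induced by a semilinear isometry.** -/
theorem exists_lift (hm : 3 ≤ m) (α : MulAut (Cfsg.POmega F ⇑(minusForm m F a b))) :
    ∃ (σ : F ≃+* F) (g : Equiv.Perm ((Fin m ⊕ Fin m) ⊕ Fin 2 → F)),
      Lf (KFacts.SpecMinus.ψ (modelMinus hm2 a b hab) O hI hm0 cs) (minusForm m F a b) α σ g := by
  have : CharP F 2 := CharTwo.of_one_ne_zero_of_two_eq_zero one_ne_zero h2
  have hG := good_minus hm2 a b hab
  let M := modelMinus hm2 a b hab
  let e0 : ↥(E (minusForm m F a b)) ≃* Cfsg.POmega F ⇑(minusForm m F a b) :=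
    MulEquiv.ofBijective M.φ ⟨KFacts.SpecMinus.φ_inj M O hI hm0, KFacts.SpecMinus.φ_surj M cs hm0⟩
  let α' : MulAut ↥(E (minusForm m F a b)) := e0.trans (MulEquiv.trans α e0.symm)
  obtain ⟨N, hN⟩ := Cfsg.Agent.AutOrth.Final.surjective_minus hm hab (quotAut α')
  have h1 : quotAut ((conjE (minusForm m F a b) N)⁻¹ * α') = 1 := by
    rw [map_mul, map_inv]
    have h3 : quotAut (conjE (minusForm m F a b) N) = quotAut α' := hN
    rw [h3, inv_mul_cancel]
  have h3 : conjE (minusForm m F a b) N = α' :=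
    inv_mul_eq_one.1 (eq_one_of_quotAut (commutator_E hG) _ h1)
  obtain ⟨σ, c, hS⟩ := N.2
  have hring : ringChar F = 2 := ringChar.eq F 2 ▸ rfl
  obtain ⟨d, hd⟩ : ∃ d : F, c = d * d := FiniteField.isSquare_of_char_two hring c
  have hd0 : d ≠ 0 := by
    rintro rfl
    exact hS.ne (by rw [hd, mul_zero])
  let D : Equiv.Perm ((Fin m ⊕ Fin m) ⊕ Fin 2 → F) :=
    { toFun := fun v => d⁻¹ • v
      invFun := fun v => d • v
      left_inv := fun v => by
        show d • d⁻¹ • v = v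
        rw [smul_smul, mul_inv_cancel₀ hd0, one_smul]
      right_inv := fun v => by
        show d⁻¹ • d • v = v
        rw [smul_smul, inv_mul_cancel₀ hd0, one_smul] }
  refine ⟨σ, D * N.1, ?_, ?_, ?_, ?_⟩
  · intro u v
    show d⁻¹ • N.1 (u + v) = d⁻¹ • N.1 u + d⁻¹ • N.1 v
    rw [hS.add, smul_add]
  · intro x v
    show d⁻¹ • N.1 (x • v) = σ x • d⁻¹ • N.1 v
    rw [hS.smul, smul_comm]
  · intro v
    show minusForm m F a b (d⁻¹ • N.1 v) = σ (minusForm m F a b v)
    rw [QuadraticMap.map_smul, hS.form, hd, smul_eq_mul]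
    field_simp
  · intro x v
    show KFacts.SpecMinus.ψ M O hI hm0 cs (α x) (d⁻¹ • N.1 v) = d⁻¹ • N.1 (KFacts.SpecMinus.ψ M O hI hm0 cs x v)
    rw [map_smul]
    congr 1
    obtain ⟨k, rfl⟩ := e0.surjective x
    have e1 : α (e0 k) = e0 (α' k) := by
      show α (e0 k) = e0 (e0.symm (α (e0 k)))
      rw [e0.apply_symm_apply]
    have e2 : KFacts.SpecMinus.ψ M O hI hm0 cs (e0 (α' k)) = (α' k).1 := KFacts.SpecMinus.ψ_φ M O hI hm0 cs _
    have e3 : KFacts.SpecMinus.ψ M O hI hm0 cs (e0 k) = k.1 := KFacts.SpecMinus.ψ_φ M O hI hm0 cs _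
    rw [e1, e2, e3, ← h3, coe_conjE, conjLin_apply']

end

end Cfsg.Agent.OddHalf.D4.MinusB
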