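import Mathlib
import Cfsg.Agent.OddHalf.D4.MinusB.Facts
import Cfsg.Agent.OddHalf.D4.MinusB.LiftInst

/-!
# ODD, D4, (1B): `BFacts` for `PΩ⁻_{2m+2}(F)`, `m ≥ 3`, `|F| ≥ 4` even

helper328. `afacts_minus`, `bfacts_minus`.
-/

set_option autoImplicit false
set_option linter.unusedSectionVars false

namespace Cfsg.Agent.OddHalf.D4.MinusB

open CoxeterSystem Cfsg.Agent.ChevalleyStructure.CoxeterGeom Cfsg.Agent.Tits.Roots Cfsg.Agent.Nodes.TypeC
open Cfsg.Agent.Nodes.Comb Cfsg.Agent.Nodes.Reps Cfsg.Agent.Nodes.BNOf Cfsg.Agent.Nodes.OppDec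
open Cfsg.Agent Cfsg.Agent.TitsThree Cfsg.Agent.TitsThree.Siegel Cfsg.Agent.TitsThree.WittFrame
  Cfsg.Agent.TitsThree.WittWeyl Cfsg.Agent.TitsThree.FrameCN Cfsg.Agent.TitsThree.LineBorel
open Cfsg.Agent.KFacts.WittOrth Cfsg.Agent.KFacts.SpecMinus Cfsg.Agent.KFacts.RgdCent Cfsg.Agent.KFacts.RgdCentW
open Cfsg.Agent.OddHalf.DblR.SheetMinus
open QuadraticMap Cfsg.Agent.LieClassical.OrthCore Cfsg.Agent.LieClassical.OrthTrans
  Cfsg.Agent.LieClassical.OrthForms Cfsg.Agent.LieClassical.OrthSimple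
  Cfsg.Agent.TitsThree.KSideO Cfsg.Agent.TitsThree.StdData Cfsg.Agent.TitsThree.WBridge
open Cfsg.Agent.OddHalf.D4.Free

variable {F : Type*} [Field F] [Finite F]

/-- **The facts for `PΩ⁻_{2m+2}(F)`.** -/
theorem afacts_minus (h2 : (2 : F) = 0) (hs : ∃ s : F, s ≠ 0 ∧ s ≠ 1) {m : ℕ} (hm : 3 ≤ m) (a b : F)
    (hab : ∀ z₁ z₂ : F, z₁ ^ 2 + a * z₁ * z₂ + b * z₂ ^ 2 = 0 → z₁ = 0 ∧ z₂ = 0) :
    ∃ T : Sylow 2 (Cfsg.POmega F ⇑(minusForm m F a b)), AFacts T := by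
  have : Fact (Nat.Prime 2) := ⟨Nat.prime_two⟩
  have : CharP F 2 := CharTwo.of_one_ne_zero_of_two_eq_zero one_ne_zero h2
  have hm2 : 2 ≤ m := by omega
  have hm0 : 0 < m := by omega
  have O := orth_minus h2 m a b hab
  have hA := ambT_minus h2 hm2 a b hab
  obtain ⟨p0, hp0⟩ := O.p0
  let cs := (CoxeterMatrix.B m).toCoxeterSystem
  have hW : Finite (CoxeterMatrix.B m).Group := Nodes.TypeC.finite_W cs
  have R := Nodes.WittAll.rgdC_model (modelMinus hm2 a b hab) hA hp0 cs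
  have top : RGD.Sup (Nodes.WittModel.X (modelMinus hm2 a b hab)) {x | IsRoot cs (isCartan m) x} = ⊤ :=
    Nodes.WittModel.G1_eq_top (modelMinus hm2 a b hab) hm0 cs
  have hsimp := simple_minus hm a b hab
  have hZ : Subgroup.center (Cfsg.POmega F ⇑(minusForm m F a b)) = ⊥ := by
    rcases hsimp.eq_bot_or_eq_top_of_normal (Subgroup.center _) inferInstance with h3 | h3
    · exact h3
    · exfalso
      let x : Fin m × Bool := (⟨0, hm0⟩, true)
      let y : Fin m × Bool := (⟨1, by omega⟩, true)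
      have hxy : x.1 ≠ y.1 := by
        intro h
        have := congrArg Fin.val h
        simp [x, y] at this
      have h1 := Z_nd (modelMinus hm2 a b hab) O (x := x) (y := y) hxy hA.iso hm0 (p := p0) fun q => by
        have : (modelMinus hm2 a b hab).Z x p0 ∈ Subgroup.center (Cfsg.POmega F ⇑(minusForm m F a b)) := by
          rw [h3]; trivial
        exact (Subgroup.mem_center_iff.1 this _).symm
      rw [h1] at hp0
      exact hp0 Frame.Adm.one_c
  obtain ⟨T, hT⟩ := KFacts.RgdAutFacts.exists_sylow R (KFacts.RgdRigid.GG_eq_top top)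
  have C : Ctx (modelMinus hm2 a b hab) (KFacts.SpecMinus.ψ (modelMinus hm2 a b hab) O hA.iso hm0 cs)
      (minusForm m F a b) cs _ _ T :=
    { O := O
      P := rep_minus hm2 hm0 a b hab O hA.iso cs
      Q := qd_minus h2 a b hab
      R := R
      hn := hm
      hA := hA
      hN := noCent_of_center R top hZ
      hG1 := top
      hT := hT
      hP := DblR.MinusTor.isPlane_minus h2 m a b hab
      lift := fun α => exists_lift h2 hm2 hm0 a b hab O hA.iso cs hm α }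
  exact ⟨T, C.afacts hs⟩

/-- **`BFacts` for `PΩ⁻_{2m+2}(F)`.** -/
theorem bfacts_minus (h2 : (2 : F) = 0) (hs : ∃ s : F, s ≠ 0 ∧ s ≠ 1) {m : ℕ} (hm : 3 ≤ m) (a b : F)
    (hab : ∀ z₁ z₂ : F, z₁ ^ 2 + a * z₁ * z₂ + b * z₂ ^ 2 = 0 → z₁ = 0 ∧ z₂ = 0)
    {G : Type*} [Group G] [Finite G] {K : Subgroup G} (e : Cfsg.POmega F ⇑(minusForm m F a b) ≃* ↥K) : BFacts K := by
  obtain ⟨T, hT⟩ := afacts_minus h2 hs hm a b hab
  exact hT.bfacts e

end Cfsg.Agent.OddHalf.D4.MinusB
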